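import Cfsg.Agent.Lib.L34Mult.TwoBound

/-!
# The odd part of a stem extension of `L₃(4)`

One element of order dividing three generates it.
-/

set_option autoImplicit false
set_option linter.unusedSectionVars false

namespace Cfsg.Agent.L34Mult

open Matrix Cfsg.Agent.AutPSL.Roots Cfsg.Agent.AutPSL.Basic Cfsg.Agent.Perm.L34Cover
open scoped commutatorElement

universe u v

variable {F : Type u} [Field F] [Fintype F]

local notation "SL3" => Matrix.SpecialLinearGroup (Fin 3) F
local notation "PSL3" => Matrix.ProjectiveSpecialLinearGroup (Fin 3) F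
local notation "U3" => (unitri (n := 3) (F := F))

theorem card_psl (hF : Fintype.card F = 4) :
    Nat.card (Matrix.ProjectiveSpecialLinearGroup (Fin 3) F) = 20160 := by
  have h1 := Classical.Linear.gcd_mul_natCard_PSL_fin (F := F) (k := 3) (by norm_num)
  have h2 := Classical.Linear.mul_natCard_SL_fin (F := F) (k := 3) (by norm_num)
  rw [hF] at h1 h2
  rw [← h1, Fin.prod_univ_three] at h2
  norm_num at h2
  omega

/-- A group generated by two commuting elements of order three, the second outside the powers of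
the first, has order nine. -/
theorem card_two_three {G : Type*} [Group G] [Finite G] {x y : G} (hx : orderOf x = 3)
    (hy : orderOf y = 3) (hxy : Commute x y) (hne : ∀ k < 3, x ^ k ≠ y) :
    ∃ D : Subgroup G, Nat.card D = 9 ∧ ∀ d ∈ D, ∃ i j : ℤ, d = x ^ i * y ^ j := by
  classical
  haveI : Fact (Nat.Prime 3) := ⟨Nat.prime_three⟩
  let f := (Subgroup.zpowers x).subtype.noncommCoprod (Subgroup.zpowers y).subtype fun a b => by
    obtain ⟨i, hi⟩ := Subgroup.mem_zpowers_iff.1 a.2
    obtain ⟨j, hj⟩ := Subgroup.mem_zpowers_iff.1 b.2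
    change Commute (a : G) (b : G)
    rw [← hi, ← hj]
    exact (hxy.zpow_left i).zpow_right j
  have hfv : ∀ p, f p = (p.1 : G) * (p.2 : G) := fun p => rfl
  have hinj : Function.Injective f := by
    rw [injective_iff_map_eq_one]
    intro p hp
    rw [hfv] at hp
    have hb : (p.2 : G) ∈ Subgroup.zpowers x := by
      rw [eq_inv_of_mul_eq_one_right hp]; exact inv_mem p.1.2
    have hb1 : (p.2 : G) = 1 := by
      by_contra hb1
      have ho : orderOf (p.2 : G) = 3 := by
        refine orderOf_eq_prime ?_ hb1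
        obtain ⟨j, hj⟩ := Subgroup.mem_zpowers_iff.1 p.2.2
        rw [← hj, ← zpow_natCast, ← _root_.zpow_mul, mul_comm, _root_.zpow_mul, zpow_natCast, ← hy,
          pow_orderOf_eq_one, _root_.one_zpow]
      have e1 : Subgroup.zpowers (p.2 : G) = Subgroup.zpowers y :=
        Subgroup.eq_of_le_of_card_ge (Subgroup.zpowers_le.2 p.2.2)
          (by rw [Nat.card_zpowers, Nat.card_zpowers, hy, ho])
      have hy' : y ∈ Subgroup.zpowers x :=
        Subgroup.zpowers_le.2 hb (by rw [e1]; exact Subgroup.mem_zpowers y)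
      obtain ⟨k, hk, hk'⟩ : ∃ k < 3, x ^ k = y := by
        rw [← mem_powers_iff_mem_zpowers, (isOfFinOrder_of_finite x).mem_powers_iff_mem_range_orderOf,
          hx, Finset.mem_image] at hy'
        obtain ⟨k, hk, e⟩ := hy'
        exact ⟨k, Finset.mem_range.1 hk, e⟩
      exact hne k hk hk'
    have ha1 : (p.1 : G) = 1 := by rwa [hb1, mul_one] at hp
    exact Prod.ext (Subtype.ext ha1) (Subtype.ext hb1)
  refine ⟨f.range, ?_, ?_⟩
  · rw [← Nat.card_congr (MonoidHom.ofInjective hinj).toEquiv, Nat.card_prod, Nat.card_zpowers,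
      Nat.card_zpowers, hx, hy]
  · rintro _ ⟨p, rfl⟩
    obtain ⟨i, hi⟩ := Subgroup.mem_zpowers_iff.1 p.1.2
    obtain ⟨j, hj⟩ := Subgroup.mem_zpowers_iff.1 p.2.2
    exact ⟨i, j, by rw [hfv, hi, hj]⟩

theorem exists_threeSylow (hF : Fintype.card F = 4) :
    ∃ (x y : Matrix.ProjectiveSpecialLinearGroup (Fin 3) F), x ^ 3 = 1 ∧ Commute x y ∧
      ∃ D : Subgroup (Matrix.ProjectiveSpecialLinearGroup (Fin 3) F),
        Nat.card D = 9 ∧ ∀ d ∈ D, ∃ i j : ℤ, d = x ^ i * y ^ j := by
  obtain ⟨W⟩ := exists_frame hF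
  have hw3 : W.w * W.w * W.w = 1 := by linear_combination (W.w + 1) * W.sq + W.w * W.two
  let X : SL3 := ⟨!![1, 0, 0; 0, W.w, 0; 0, 0, W.w * W.w], by
    simp [Matrix.det_fin_three]; linear_combination hw3⟩
  let Y : SL3 := ⟨!![0, 1, 0; 0, 0, 1; 1, 0, 0], by simp [Matrix.det_fin_three]⟩
  have hX : X.1 = !![1, 0, 0; 0, W.w, 0; 0, 0, W.w * W.w] := rfl
  have hY : Y.1 = !![0, 1, 0; 0, 0, 1; 1, 0, 0] := rfl
  have hX3 : X ^ 3 = 1 := by
    refine Subtype.ext ?_
    rw [show X ^ 3 = X * X * X by simp only [pow_succ, pow_zero, one_mul]]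
    ext i j
    fin_cases i <;> fin_cases j <;>
      simp [hX, Matrix.SpecialLinearGroup.coe_mul, Matrix.mul_apply, Fin.sum_univ_three] <;>
      first | linear_combination hw3 | linear_combination (W.w * W.w * W.w + 1) * hw3
  have hY3 : Y ^ 3 = 1 := by
    refine Subtype.ext ?_
    rw [show Y ^ 3 = Y * Y * Y by simp only [pow_succ, pow_zero, one_mul]]
    ext i j
    fin_cases i <;> fin_cases j <;>
      simp [hY, Matrix.SpecialLinearGroup.coe_mul, Matrix.mul_apply, Fin.sum_univ_three]
  have hXY : (QuotientGroup.mk X : PSL3) * QuotientGroup.mk Y = QuotientGroup.mk Y * QuotientGroup.mk X := by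
    rw [← QuotientGroup.mk_mul, ← QuotientGroup.mk_mul, mk_eq_mk_iff]
    refine ⟨W.w, ?_⟩
    ext i j
    fin_cases i <;> fin_cases j <;>
      simp [hX, hY, Matrix.SpecialLinearGroup.coe_mul, Matrix.mul_apply, Fin.sum_univ_three] <;>
      first | linear_combination hw3 | linear_combination -hw3
  have hne : ∀ k < 3, (QuotientGroup.mk X : PSL3) ^ k ≠ QuotientGroup.mk Y := by
    intro k hk e
    rw [← QuotientGroup.mk_pow, mk_eq_mk_iff] at e
    obtain ⟨c, hc⟩ := e
    have h := congrFun (congrFun hc 0) 1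
    interval_cases k <;> simp [hX, hY, pow_two, Matrix.SpecialLinearGroup.coe_mul, Matrix.mul_apply,
      Fin.sum_univ_three] at h
  haveI : Fact (Nat.Prime 3) := ⟨Nat.prime_three⟩
  have ox : orderOf (QuotientGroup.mk X : PSL3) = 3 := by
    refine orderOf_eq_prime (by rw [← QuotientGroup.mk_pow, hX3, QuotientGroup.mk_one]) fun e => ?_
    rw [eq_comm, ← QuotientGroup.mk_one, mk_eq_mk_iff] at e
    obtain ⟨c, hc⟩ := e
    have h0 := congrFun (congrFun hc 0) 0
    have h1 := congrFun (congrFun hc 1) 1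
    simp [hX] at h0 h1
    exact W.ne_one (h1.trans h0.symm)
  have oy : orderOf (QuotientGroup.mk Y : PSL3) = 3 := by
    refine orderOf_eq_prime (by rw [← QuotientGroup.mk_pow, hY3, QuotientGroup.mk_one]) fun e => ?_
    rw [eq_comm, ← QuotientGroup.mk_one, mk_eq_mk_iff] at e
    obtain ⟨c, hc⟩ := e
    have h0 := congrFun (congrFun hc 0) 1
    simp [hY] at h0
  exact ⟨_, _, by rw [← QuotientGroup.mk_pow, hX3, QuotientGroup.mk_one], hXY,
    card_two_three ox oy hXY hne⟩

variable [CharP F 2] {Γ : Type v} [Group Γ] [Finite Γ]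
variable {σ : Γ →* Matrix.ProjectiveSpecialLinearGroup (Fin 3) F}

/-- Kernel elements of odd order are powers of one element of order dividing three. -/
theorem exists_odd_gen (hF : Fintype.card F = 4) (hs : Cfsg.IsStemExtension σ) :
    ∃ z₀ ∈ σ.ker, z₀ ^ 3 = 1 ∧
      ∀ z ∈ σ.ker, z ^ (U3).index = 1 → z ∈ Subgroup.zpowers z₀ := by
  obtain ⟨hsur, hc, hd⟩ := hs
  haveI : Finite PSL3 := inferInstance
  obtain ⟨x, y, hx3, hxy, D, hD, hDmem⟩ := exists_threeSylow hF
  obtain ⟨X, hX⟩ := hsur x
  obtain ⟨Y, hY⟩ := hsur y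
  set z₀ := ⁅X, Y⁆ with hz₀
  have hz₀k : z₀ ∈ σ.ker := by
    rw [MonoidHom.mem_ker, map_commutatorElement, hX, hY, commutatorElement_eq_one_iff_commute]
    exact hxy
  have hcz : ∀ g, g * z₀ = z₀ * g := Subgroup.mem_center_iff.1 (hc hz₀k)
  have hz₀3 : z₀ ^ 3 = 1 := by
    have hX3 : X ^ 3 ∈ σ.ker := by rw [MonoidHom.mem_ker, map_pow, hX, hx3]
    have hstep : ∀ k : ℕ, ⁅X ^ k, Y⁆ = z₀ ^ k := by
      intro k
      induction k with
      | zero => simp
      | succ k ih =>
        have e : ⁅X ^ (k + 1), Y⁆ = X * ⁅X ^ k, Y⁆ * X⁻¹ * ⁅X, Y⁆ := by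
          rw [pow_succ']; simp only [commutatorElement_def]; group
        rw [e, ih, ((show Commute X z₀ from hcz X).pow_right k).eq, mul_inv_cancel_right, ← pow_succ]
    rw [← hstep, commutatorElement_eq_one_iff_commute]
    exact (show Commute Y (X ^ 3) from Subgroup.mem_center_iff.1 (hc hX3) Y).symm
  refine ⟨z₀, hz₀k, hz₀3, fun z hz hzn => ?_⟩
  set Z := Subgroup.zpowers z₀ with hZ
  haveI : Z.Normal := ⟨fun n hn g => by
    have hn' : n ∈ Subgroup.center Γ := hc ((Subgroup.zpowers_le.2 hz₀k) hn)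
    rw [Subgroup.mem_center_iff.1 hn' g, mul_inv_cancel_right]; exact hn⟩
  let q : Γ →* Γ ⧸ Z := QuotientGroup.mk' Z
  set d := orderOf (q z) with hd'
  have hdn : d ∣ (U3).index := orderOf_dvd_of_pow_eq_one (by rw [← map_pow, hzn, map_one])
  have hprime : ∀ p : ℕ, p.Prime → p ∣ d → False := by
    intro p hp hpd
    haveI := Fact.mk hp
    have hpG : p ∣ 20160 := by
      rw [← card_psl hF]
      exact hpd.trans (hdn.trans (Subgroup.index_dvd_card _))
    have hp2 : p ≠ 2 := by
      rintro rfl
      obtain ⟨m, hm⟩ := odd_index (F := F)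
      have := hpd.trans hdn
      omega
    let R : Sylow p Γ := default
    let S : Sylow p PSL3 := R.mapSurjective hsur
    have hRS : ∀ g ∈ (R : Subgroup Γ), σ g ∈ (S : Subgroup PSL3) := fun g hg => ⟨g, hg, rfl⟩
    have hder : z ^ (R : Subgroup Γ).index ∈ Z := by
      have hmem := pow_index_mem_derived (R : Subgroup Γ) (hc hz) (hd hz)
      refine (?_ : ⁅(R : Subgroup Γ), (R : Subgroup Γ)⁆ ≤ Z) hmem
      rw [Subgroup.commutator_le]
      intro a ha b hb
      have hS := S.card_eq_multiplicity
      rw [card_psl hF] at hS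
      by_cases hp3 : p = 3
      · subst hp3
        have h9 : Nat.factorization 20160 3 = 2 := by
          rw [Nat.factorization_def _ Nat.prime_three,
            show (20160 : ℕ) = 2240 * 3 ^ 2 by norm_num, padicValNat.mul (by norm_num) (by norm_num),
            padicValNat.prime_pow, padicValNat.eq_zero_of_not_dvd (by norm_num)]
        let DS : Sylow 3 PSL3 := Sylow.ofCard D (by rw [hD, card_psl hF, h9]; norm_num)
        obtain ⟨g, hg⟩ := MulAction.exists_smul_eq PSL3 S DS
        obtain ⟨G, rfl⟩ := hsur g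
        have hmemD : ∀ r ∈ (R : Subgroup Γ), ∃ i j : ℤ, ∃ k ∈ σ.ker,
            G * r * G⁻¹ = X ^ i * Y ^ j * k := by
          intro r hr
          have h1 : σ G * σ r * (σ G)⁻¹ ∈ (DS : Subgroup PSL3) := by
            rw [← hg]
            exact ⟨σ r, hRS r hr, rfl⟩
          obtain ⟨i, j, e⟩ := hDmem _ h1
          refine ⟨i, j, (X ^ i * Y ^ j)⁻¹ * (G * r * G⁻¹), ?_, (mul_inv_cancel_left _ _).symm⟩
          rw [MonoidHom.mem_ker, map_mul, map_inv, inv_mul_eq_one, map_mul, map_mul, map_mul, map_inv,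
            map_zpow, map_zpow, hX, hY, e]
        obtain ⟨i, j, k, hk, ea⟩ := hmemD a ha
        obtain ⟨i', j', k', hk', eb⟩ := hmemD b hb
        have hXY : Commute (q X) (q Y) := by
          rw [← commutatorElement_eq_one_iff_commute, ← map_commutatorElement]
          exact (QuotientGroup.eq_one_iff _).2 (Subgroup.mem_zpowers z₀)
        have hck : ∀ u ∈ σ.ker, ∀ t, Commute t (q u) := fun u hu t => by
          obtain ⟨t, rfl⟩ := QuotientGroup.mk'_surjective Z t
          exact (show Commute t u from Subgroup.mem_center_iff.1 (hc hu) t).map q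
        have c1 : Commute (q X) (q (G * b * G⁻¹)) := by
          rw [eb, map_mul, map_mul, map_zpow, map_zpow]
          exact (((Commute.refl _).zpow_right _).mul_right (hXY.zpow_right _)).mul_right (hck _ hk' _)
        have c2 : Commute (q Y) (q (G * b * G⁻¹)) := by
          rw [eb, map_mul, map_mul, map_zpow, map_zpow]
          exact ((hXY.symm.zpow_right _).mul_right ((Commute.refl _).zpow_right _)).mul_right
            (hck _ hk' _)
        have c3 : Commute (q (G * a * G⁻¹)) (q (G * b * G⁻¹)) := by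
          rw [ea, map_mul, map_mul, map_zpow, map_zpow]
          exact ((c1.zpow_left _).mul_left (c2.zpow_left _)).mul_left (hck _ hk _).symm
        have h2 : q ⁅G * a * G⁻¹, G * b * G⁻¹⁆ = 1 := by
          rw [map_commutatorElement]; exact commutatorElement_eq_one_iff_commute.2 c3
        have h3 : ⁅G * a * G⁻¹, G * b * G⁻¹⁆ = G * ⁅a, b⁆ * G⁻¹ := by
          simp only [commutatorElement_def]; group
        rw [h3] at h2
        have h4 : G * ⁅a, b⁆ * G⁻¹ ∈ Z := (QuotientGroup.eq_one_iff _).1 h2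
        have := (inferInstance : Z.Normal).conj_mem _ h4 G⁻¹
        rwa [inv_inv, ← mul_assoc, ← mul_assoc, inv_mul_cancel, one_mul, inv_mul_cancel_right] at this
      · have hle : Nat.factorization 20160 p ≤ 1 := by
          by_contra hcon
          have h2 : p ^ 2 ∣ 20160 := (pow_dvd_pow p (Nat.lt_of_not_le hcon)).trans (Nat.ordProj_dvd _ _)
          have h57 : p = 5 ∨ p = 7 := by
            have : p ∈ Nat.primeFactors 20160 := Nat.mem_primeFactors.2 ⟨hp, hpG, by norm_num⟩
            have h' : p ∣ 2 ^ 6 * 3 ^ 2 * 5 * 7 := hpG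
            rcases hp.dvd_mul.1 h' with h' | h'
            · rcases hp.dvd_mul.1 h' with h' | h'
              · rcases hp.dvd_mul.1 h' with h' | h'
                · exact absurd ((Nat.prime_dvd_prime_iff_eq hp Nat.prime_two).1 (hp.dvd_of_dvd_pow h')) hp2
                · exact absurd ((Nat.prime_dvd_prime_iff_eq hp Nat.prime_three).1 (hp.dvd_of_dvd_pow h')) hp3
              · exact Or.inl ((Nat.prime_dvd_prime_iff_eq hp (by norm_num)).1 h')
            · exact Or.inr ((Nat.prime_dvd_prime_iff_eq hp (by norm_num)).1 h')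
          rcases h57 with rfl | rfl <;> norm_num at h2
        haveI : IsCyclic S := by
          rcases Nat.le_one_iff_eq_zero_or_eq_one.1 hle with h | h <;> rw [h] at hS
          · rw [pow_zero] at hS
            haveI : Subsingleton S := (Nat.card_eq_one_iff_unique.1 hS).1
            infer_instance
          · rw [pow_one] at hS
            exact isCyclic_of_prime_card hS
        let f : (R : Subgroup Γ) →* (S : Subgroup PSL3) :=
          (σ.comp (R : Subgroup Γ).subtype).codRestrict _ fun t => hRS t.1 t.2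
        haveI := f.isMulCommutative_of_isCyclic_of_ker_le_center (fun t ht => by
          refine Subgroup.mem_center_iff.2 fun u => Subtype.ext ?_
          exact Subgroup.mem_center_iff.1 (hc (MonoidHom.mem_ker.2
            (congrArg Subtype.val (MonoidHom.mem_ker.1 ht)))) u.1)
        rw [commutatorElement_eq_one_iff_commute.2
          (congrArg Subtype.val (mul_comm' (⟨a, ha⟩ : (R : Subgroup Γ)) ⟨b, hb⟩))]
        exact one_mem _
    have hdR : d ∣ (R : Subgroup Γ).index :=
      orderOf_dvd_of_pow_eq_one (by rw [← map_pow]; exact (QuotientGroup.eq_one_iff _).2 hder)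
    exact R.not_dvd_index (hpd.trans hdR)
  have hd1 : d = 1 := by
    by_contra hne
    exact hprime _ (Nat.minFac_prime hne) (Nat.minFac_dvd d)
  exact (QuotientGroup.eq_one_iff _).1 (orderOf_eq_one_iff.1 hd1)

end Cfsg.Agent.L34Mult
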