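import Cfsg.Agent.Lib.L34Mult.CoresPairing
import Cfsg.Agent.Lib.Perm.L34Cover.Model

/-!
# A cocycle of the unitriangular group of `L₃(4)` with values in the additive group of `GR(4,2)`

The Teichmüller map of the Galois ring with 16 elements is written out, and a cocycle is built from
it whose pairing on the rows is twice the Teichmüller lift of the determinant.
-/

set_option autoImplicit false
set_option linter.unusedSectionVars false

namespace Cfsg.Agent.L34Mult

open Matrix Cfsg.Agent.AutPSL.Roots Cfsg.Agent.AutPSL.Basic Cfsg.Agent.Suzuki.Eight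
open Cfsg.Agent.Perm.L34Cover

/-- The additive group of the Galois ring with 16 elements. -/
abbrev Coef : Type := ZMod 4 × ZMod 4

universe u

variable (F : Type u) [Field F]

/-- An element of order three and the list of the elements. -/
structure Frame where
  w : F
  two : (2 : F) = 0
  ne_zero : w ≠ 0
  ne_one : w ≠ 1
  sq : w * w = w + 1
  cases : ∀ x : F, x = 0 ∨ x = 1 ∨ x = w ∨ x = w + 1

variable {F}

theorem exists_frame [Fintype F] (hF : Fintype.card F = 4) : Nonempty (Frame F) := by
  classical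
  haveI : CharP F 2 := charP_of_card_eq_prime_pow (f := 2) (by rw [hF]; norm_num)
  obtain ⟨w, -, hw⟩ := Finset.exists_mem_notMem_of_card_lt_card
    (s := ({0, 1} : Finset F)) (t := Finset.univ)
    (by rw [Finset.card_univ, hF]; exact lt_of_le_of_lt Finset.card_le_two (by norm_num))
  simp only [Finset.mem_insert, Finset.mem_singleton, not_or] at hw
  have h1 : w + 1 ≠ 0 := fun h => hw.2 (CharTwo.add_eq_zero.1 h)
  have h2 : w + 1 ≠ 1 := fun h => hw.1 (by simpa using h)
  have h3 : w + 1 ≠ w := fun h => by simp at h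
  have hall : ({0, 1, w, w + 1} : Finset F) = Finset.univ := by
    refine Finset.eq_univ_of_card _ ?_
    rw [hF, Finset.card_insert_of_notMem, Finset.card_insert_of_notMem,
      Finset.card_insert_of_notMem, Finset.card_singleton] <;>
      simp [Ne.symm hw.1, Ne.symm hw.2, Ne.symm h1, Ne.symm h2, Ne.symm h3]
  have hc : ∀ x : F, x = 0 ∨ x = 1 ∨ x = w ∨ x = w + 1 := fun x => by
    have hs := Finset.mem_univ x
    rw [← hall] at hs
    simpa using hs
  refine ⟨⟨w, CharTwo.two_eq_zero, hw.1, hw.2, ?_, hc⟩⟩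
  rcases hc (w * w) with h | h | h | h
  · exact absurd (mul_self_eq_zero.1 h) hw.1
  · refine absurd ?_ hw.2
    have h' : (w + 1) * (w + 1) = 0 := by
      rw [CharTwo.add_mul_self, h, one_mul, CharTwo.add_self_eq_zero]
    exact CharTwo.add_eq_zero.1 (mul_self_eq_zero.1 h')
  · exact absurd ((mul_eq_left₀ hw.1).1 h) hw.2
  · exact h

namespace Frame

variable (W : Frame F)
include W

theorem add_self (x : F) : x + x = 0 := by linear_combination x * W.two

theorem pow_four (x : F) : x ^ 4 = x := by
  rcases W.cases x with rfl | rfl | rfl | rfl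
  · simp
  · simp
  · linear_combination (W.w * W.w + W.w + 1 + 1) * W.sq + (W.w + 1) * W.two
  · linear_combination (W.w * W.w + 5 * W.w + 12) * W.sq + (10 * W.w + 6) * W.two

/-- The Teichmüller map. -/
noncomputable def teich (x : F) : Coef := by
  classical
  exact if x = 0 then 0 else if x = 1 then (1, 0) else if x = W.w then (0, 1) else (3, 3)

theorem teich_zero : W.teich 0 = 0 := by simp [teich]

theorem teich_one : W.teich 1 = (1, 0) := by simp [teich]

theorem teich_w : W.teich W.w = (0, 1) := by simp [teich, W.ne_zero, W.ne_one]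

theorem teich_w_one : W.teich (W.w + 1) = (3, 3) := by
  have h1 : W.w + 1 ≠ 0 := fun h => W.ne_one (by linear_combination h - W.two)
  have h2 : W.w + 1 ≠ 1 := fun h => W.ne_zero (by linear_combination h)
  have h3 : W.w + 1 ≠ W.w := fun h => one_ne_zero (α := F) (by linear_combination h)
  simp [teich, h1, h2, h3]

/-- Twice the Teichmüller map. -/
noncomputable def dbl (x : F) : Coef := W.teich x + W.teich x

theorem teich_add (x y : F) :
    W.teich (x + y) = W.teich x + W.teich y + W.dbl ((x * y) ^ 2) := by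
  have e11 : (1 : F) + 1 = 0 := W.add_self 1
  have eww : W.w + W.w = 0 := W.add_self W.w
  have e1v : 1 + (W.w + 1) = W.w := by linear_combination W.two
  have ev1 : W.w + 1 + 1 = W.w := by linear_combination W.two
  have ewv : W.w + (W.w + 1) = 1 := by linear_combination W.w * W.two
  have evw : W.w + 1 + W.w = 1 := by linear_combination W.w * W.two
  have evv : W.w + 1 + (W.w + 1) = 0 := W.add_self _
  have pw : W.w ^ 2 = W.w + 1 := by rw [pow_two, W.sq]
  have pv : (W.w + 1) ^ 2 = W.w := by linear_combination W.sq + (W.w + 1) * W.two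
  have mvw : (W.w + 1) * W.w = 1 := by linear_combination W.sq + W.w * W.two
  have mwv : W.w * (W.w + 1) = 1 := by rw [mul_comm, mvw]
  have mvv : (W.w + 1) * (W.w + 1) = W.w := by rw [← pow_two, pv]
  rcases W.cases x with rfl | rfl | rfl | rfl <;> rcases W.cases y with rfl | rfl | rfl | rfl <;>
    simp [dbl, e11, eww, e1v, ev1, ewv, evw, evv, pw, pv, mvw, mwv, mvv, W.sq, add_comm (1 : F) W.w,
      teich_zero, teich_one, teich_w, teich_w_one] <;> decide

theorem four_nsmul (a : Coef) : a + a + (a + a) = 0 := by revert a; decide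

theorem dbl_add (x y : F) : W.dbl (x + y) = W.dbl x + W.dbl y := by
  have h := four_nsmul W (W.teich ((x * y) ^ 2))
  simp only [dbl, teich_add] at h ⊢
  calc _ = W.teich x + W.teich x + (W.teich y + W.teich y) +
        (W.teich ((x * y) ^ 2) + W.teich ((x * y) ^ 2) +
          (W.teich ((x * y) ^ 2) + W.teich ((x * y) ^ 2))) := by abel
    _ = _ := by rw [h, add_zero]

theorem dbl_zero : W.dbl 0 = 0 := by simp [dbl, teich_zero]

theorem dbl_add_self (x : F) : W.dbl x + W.dbl x = 0 := four_nsmul W _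

theorem exists_dbl {a : Coef} (h : a + a = 0) : ∃ x, W.dbl x = a := by
  have hall : ∀ a : Coef, a + a = 0 → a = 0 ∨ a = (2, 0) ∨ a = (0, 2) ∨ a = (2, 2) := by decide
  rcases hall a h with rfl | rfl | rfl | rfl
  · exact ⟨0, W.dbl_zero⟩
  · exact ⟨1, by simp [dbl, teich_one]; decide⟩
  · exact ⟨W.w, by simp [dbl, teich_w]; decide⟩
  · exact ⟨W.w + 1, by simp [dbl, teich_w_one]; decide⟩

end Frame

local notation "SL3" => Matrix.SpecialLinearGroup (Fin 3) F
local notation "PSL3" => Matrix.ProjectiveSpecialLinearGroup (Fin 3) F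
local notation "U3" => (unitri (n := 3) (F := F))
local notation "US" => (unitriSL (n := 3) (F := F))

theorem unitri_entries {s t : SL3} (hs : s ∈ US) (ht : t ∈ US) :
    (s * t).1 0 1 = s.1 0 1 + t.1 0 1 ∧ (s * t).1 1 2 = s.1 1 2 + t.1 1 2 ∧
      (s * t).1 0 2 = s.1 0 2 + t.1 0 2 + s.1 0 1 * t.1 1 2 := by
  have h1 := hs.1
  have h2 := hs.2
  have h3 := ht.1
  have h4 := ht.2
  refine ⟨?_, ?_, ?_⟩ <;>
    simp [Matrix.SpecialLinearGroup.coe_mul, Matrix.mul_apply, Fin.sum_univ_three, h1, h2, h3, h4] <;>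
    ring

/-- The cocycle, in terms of the entries. -/
noncomputable def Frame.val (W : Frame F) (a b e x y : F) : Coef :=
  W.teich (x ^ 2 * b) +
    W.dbl (x * (e + a * b) + y ^ 2 * (e + a * b + x * b) ^ 2)

theorem Frame.val_assoc (W : Frame F) (a b e x y z i j : F) :
    W.val a b e x y + W.val (a + x) (b + y) (e + z + a * y) i j =
      W.val x y z i j + W.val a b e (x + i) (y + j) := by
  haveI : CharP F 2 := CharTwo.of_one_ne_zero_of_two_eq_zero one_ne_zero W.two
  have p1 : W.teich (i ^ 2 * (b + y)) =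
      W.teich (i ^ 2 * b) + W.teich (i ^ 2 * y) + W.dbl (i ^ 2 * b ^ 2 * y ^ 2) := by
    rw [mul_add, W.teich_add, show (i ^ 2 * b * (i ^ 2 * y)) ^ 2 = (i ^ 4) ^ 2 * b ^ 2 * y ^ 2 by ring,
      W.pow_four]
  have p2 : W.teich ((x + i) ^ 2 * b) =
      W.teich (x ^ 2 * b) + W.teich (i ^ 2 * b) + W.dbl (x * i * b) := by
    rw [CharTwo.add_sq, add_mul, W.teich_add,
      show (x ^ 2 * b * (i ^ 2 * b)) ^ 2 = x ^ 4 * i ^ 4 * b ^ 4 by ring,
      W.pow_four, W.pow_four, W.pow_four]
  simp only [Frame.val, p1, p2]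
  have key : W.dbl (x * (e + a * b) + y ^ 2 * (e + a * b + x * b) ^ 2 + i ^ 2 * b ^ 2 * y ^ 2 +
        (i * (e + z + a * y + (a + x) * (b + y)) +
          j ^ 2 * (e + z + a * y + (a + x) * (b + y) + i * (b + y)) ^ 2)) =
      W.dbl (x * i * b + (i * (z + x * y) + j ^ 2 * (z + x * y + i * y) ^ 2) +
        ((x + i) * (e + a * b) + (y + j) ^ 2 * (e + a * b + (x + i) * b) ^ 2)) := by
    refine congrArg W.dbl ?_
    simp only [CharTwo.add_sq, mul_add, add_mul, mul_pow]
    linear_combination (a * y * i + a ^ 2 * y ^ 2 * j ^ 2) * W.two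
  simp only [W.dbl_add] at key ⊢
  calc _ = W.teich (x ^ 2 * b) + W.teich (i ^ 2 * b) + W.teich (i ^ 2 * y) +
        (W.dbl (x * (e + a * b)) + W.dbl (y ^ 2 * (e + a * b + x * b) ^ 2) +
          W.dbl (i ^ 2 * b ^ 2 * y ^ 2) +
          (W.dbl (i * (e + z + a * y + (a + x) * (b + y))) +
            W.dbl (j ^ 2 * (e + z + a * y + (a + x) * (b + y) + i * (b + y)) ^ 2))) := by abel
    _ = _ := by rw [key]; abel

variable (F) [Fintype F]

/-- The projection of the unitriangular group is bijective. -/
noncomputable def unitriEquiv : US ≃* U3 :=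
  MulEquiv.ofBijective ((QuotientGroup.mk' (Subgroup.center SL3)).subgroupMap US)
    ⟨fun s t h => Subtype.ext (mk_injOn _ _ s.2 t.2 0 (congrArg Subtype.val h)),
      MonoidHom.subgroupMap_surjective _ _⟩

variable {F}

/-- The cocycle on the unitriangular group. -/
noncomputable def Frame.cocycle (W : Frame F) : Cocycle U3 Coef where
  toFun g h :=
    let s : SL3 := ((unitriEquiv F).symm g).1
    let t : SL3 := ((unitriEquiv F).symm h).1
    W.val (s.1 0 1) (s.1 1 2) (s.1 0 2) (t.1 0 1) (t.1 1 2)
  one_left g := by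
    simp only [map_one, Subgroup.coe_one, Matrix.SpecialLinearGroup.coe_one]
    simp [Frame.val, Frame.teich_zero, Frame.dbl_zero]
  one_right g := by
    simp only [map_one, Subgroup.coe_one, Matrix.SpecialLinearGroup.coe_one]
    simp [Frame.val, Frame.teich_zero, Frame.dbl_zero]
  assoc g h k := by
    simp only [map_mul, Subgroup.coe_mul]
    obtain ⟨a1, a2, a3⟩ := unitri_entries ((unitriEquiv F).symm g).2 ((unitriEquiv F).symm h).2
    obtain ⟨b1, b2, -⟩ := unitri_entries ((unitriEquiv F).symm h).2 ((unitriEquiv F).symm k).2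
    rw [a1, a2, a3, b1, b2]
    exact W.val_assoc _ _ _ _ _ _ _ _

/-- The pairing on the rows. -/
theorem Frame.cocycle_row (W : Frame F) (g h : U3) {a c x z : F}
    (hg : (g : PSL3) = QuotientGroup.mk (rowE a c)) (hh : (h : PSL3) = QuotientGroup.mk (rowE x z)) :
    W.cocycle.toFun g h - W.cocycle.toFun h g = W.dbl (x * c + a * z) := by
  have e : ∀ (g : U3) (s : SL3) (hs : s ∈ US), (g : PSL3) = QuotientGroup.mk s →
      ((unitriEquiv F).symm g).1 = s := by
    intro g s hs h
    have : (unitriEquiv F).symm g = ⟨s, hs⟩ := by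
      rw [MulEquiv.symm_apply_eq]
      exact Subtype.ext h
    rw [this]
  change W.val _ _ _ _ _ - W.val _ _ _ _ _ = _
  rw [e g _ (rowE_mem a c) hg, e h _ (rowE_mem x z) hh]
  simp [rowE_coe, Frame.val, Frame.teich_zero, W.dbl_add]
  rw [sub_eq_iff_eq_add]
  have := W.dbl_add_self (a * z)
  rw [add_assoc, this, add_zero]

end Cfsg.Agent.L34Mult
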