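import Cfsg.Agent.Lib.L34Mult.Exists
import Cfsg.Agent.Lib.Perm.L34Cover.Unique

/-!
# The 2-part of a stem extension of `L₃(4)`

Four times the index of a Sylow 2-subgroup annihilates the kernel, and two elements generate its
elements of order dividing four.
-/

set_option autoImplicit false
set_option linter.unusedSectionVars false

namespace Cfsg.Agent.L34Mult

open Matrix Cfsg.Agent.AutPSL.Roots Cfsg.Agent.AutPSL.Basic Cfsg.Agent.Perm.L34Cover
open scoped commutatorElement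

universe u v

/-- Transfer into a subgroup: a central element of the derived group, raised to the index, lies in
the derived subgroup. -/
theorem pow_index_mem_derived {Γ : Type v} [Group Γ] (T : Subgroup Γ) [T.FiniteIndex] {z : Γ}
    (hc : z ∈ Subgroup.center Γ) (hd : z ∈ commutator Γ) : z ^ T.index ∈ ⁅T, T⁆ := by
  have hcen : ∀ y, y * z = z * y := Subgroup.mem_center_iff.1 hc
  have key : ∀ (k : ℕ) (g₀ : Γ), g₀⁻¹ * z ^ k * g₀ ∈ T → g₀⁻¹ * z ^ k * g₀ = z ^ k :=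
    fun k g₀ _ => by
      rw [mul_assoc, ← ((show Commute g₀ z from hcen g₀).pow_right k).eq, inv_mul_cancel_left]
  set φ : T →* Abelianization T := Abelianization.of with hφ
  have h1 : MonoidHom.transfer φ z = 1 := Abelianization.commutator_subset_ker _ hd
  rw [MonoidHom.transfer_eq_pow φ z key, hφ] at h1
  have h2 : (⟨z ^ T.index, MonoidHom.transfer_eq_pow_aux z key⟩ : T) ∈ commutator T :=
    (QuotientGroup.eq_one_iff _).1 h1
  rw [← Subgroup.map_subtype_commutator T]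
  exact ⟨_, h2, rfl⟩

variable {F : Type u} [Field F] [Fintype F]

local notation "SL3" => Matrix.SpecialLinearGroup (Fin 3) F
local notation "PSL3" => Matrix.ProjectiveSpecialLinearGroup (Fin 3) F
local notation "U3" => (unitri (n := 3) (F := F))

theorem row_col_swap (a c b c' : F) :
    rowE a c * colE b c' = rowE 0 (a * b) * (colE b c' * rowE a c) := by
  refine Subtype.ext ?_
  ext i j
  fin_cases i <;> fin_cases j <;>
    simp [rowE_coe, colE_coe, Matrix.SpecialLinearGroup.coe_mul, Matrix.mul_apply,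
      Fin.sum_univ_three] <;> ring

variable [CharP F 2] {Γ : Type v} [Group Γ] [Finite Γ]
variable {σ : Γ →* Matrix.ProjectiveSpecialLinearGroup (Fin 3) F}

theorem stem_perfect (hs : Cfsg.IsStemExtension σ) : commutator Γ = ⊤ := by
  obtain ⟨hsur, hc, hd⟩ := hs
  obtain ⟨hmap, -⟩ := perfect_derived hsur hc
  refine eq_top_iff.2 fun g _ => ?_
  have hg := Subgroup.mem_top (σ g)
  rw [← hmap] at hg
  obtain ⟨d, hd', e⟩ := hg
  have := mul_mem hd' (hd (show d⁻¹ * g ∈ σ.ker by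
    rw [MonoidHom.mem_ker, map_mul, map_inv, e, inv_mul_cancel]))
  rwa [mul_inv_cancel_left] at this

omit [Finite Γ] in
/-- Commutators of commuting lifts of involutions square to one. -/
theorem commutator_sq (hc : σ.ker ≤ Subgroup.center Γ) {x y : Γ} (hxy : Commute (σ x) (σ y))
    (hy : σ y * σ y = 1) : ⁅x, y⁆ ∈ σ.ker ∧ ⁅x, y⁆ * ⁅x, y⁆ = 1 := by
  have hk : ⁅x, y⁆ ∈ σ.ker := by
    rw [MonoidHom.mem_ker, map_commutatorElement, commutatorElement_eq_one_iff_commute]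
    exact hxy
  refine ⟨hk, ?_⟩
  have h1 : ⁅x, y * y⁆ = 1 := commutatorElement_eq_one_iff_commute.2
    (Subgroup.mem_center_iff.1 (hc (by rw [MonoidHom.mem_ker, map_mul, hy])) x)
  have h2 : ⁅x, y * y⁆ = ⁅x, y⁆ * (y * ⁅x, y⁆ * y⁻¹) := by
    simp only [commutatorElement_def]; group
  rw [h1, Subgroup.mem_center_iff.1 (hc hk) y, mul_inv_cancel_right] at h2
  exact h2.symm

theorem pow_four_index (hs : Cfsg.IsStemExtension σ) {z : Γ} (hz : z ∈ σ.ker) :
    z ^ ((U3).index * 4) = 1 := by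
  obtain ⟨hsur, hc, hd⟩ := hs
  let T : Subgroup Γ := (U3).comap σ
  let H : Subgroup Γ := (rowG (F := F)).comap σ
  let K : Subgroup Γ := (colG (F := F)).comap σ
  let B : Subgroup Γ :=
    { carrier := {b | b ∈ σ.ker ∧ b * b = 1}
      one_mem' := ⟨one_mem _, one_mul 1⟩
      mul_mem' := by
        rintro a b ⟨ha, ha'⟩ ⟨hb, hb'⟩
        refine ⟨mul_mem ha hb, ?_⟩
        rw [(show Commute b a from (Subgroup.mem_center_iff.1 (hc hb) a).symm).mul_mul_mul_comm,
          ha', hb', one_mul]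
      inv_mem' := by
        rintro a ⟨ha, ha'⟩
        exact ⟨inv_mem ha, by rw [← _root_.mul_inv_rev, ha', inv_one]⟩ }
  haveI : B.Normal := ⟨fun n hn g => by
    rw [Subgroup.mem_center_iff.1 (hc hn.1) g, mul_inv_cancel_right]; exact hn⟩
  let q : Γ →* Γ ⧸ B := QuotientGroup.mk' B
  have hsq : ∀ L : Subgroup PSL3, (∀ x ∈ L, x * x = 1) → ∀ x y : Γ, σ x ∈ L → σ y ∈ L →
      Commute (q x) (q y) := by
    intro L hL x y hx hy
    rw [← commutatorElement_eq_one_iff_commute, ← map_commutatorElement]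
    refine (QuotientGroup.eq_one_iff _).2 (commutator_sq hc ?_ (hL _ hy))
    have hi : ∀ t ∈ L, t⁻¹ = t := fun t ht => inv_eq_of_mul_eq_one_right (hL t ht)
    calc σ x * σ y = (σ x * σ y)⁻¹ := (hi _ (mul_mem hx hy)).symm
      _ = σ y * σ x := by rw [_root_.mul_inv_rev, hi _ hx, hi _ hy]
  have hrow : ∀ x ∈ rowG (F := F), x * x = 1 := by
    intro x hx
    obtain ⟨a, c, rfl⟩ := mem_rowG.1 hx
    rw [← QuotientGroup.mk_mul, rowE_mul, CharTwo.add_self_eq_zero, CharTwo.add_self_eq_zero,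
      rowE_zero, QuotientGroup.mk_one]
  have hcol : ∀ x ∈ colG (F := F), x * x = 1 := by
    intro x hx
    obtain ⟨a, c, rfl⟩ := mem_colG.1 hx
    rw [← QuotientGroup.mk_mul, colE_mul, CharTwo.add_self_eq_zero, CharTwo.add_self_eq_zero,
      colE_zero, QuotientGroup.mk_one]
  -- the values of commutators
  let C : Subgroup (Γ ⧸ B) :=
    { carrier := {c | c ∈ (H ⊓ K).map q ∧ c * c = 1}
      one_mem' := ⟨one_mem _, one_mul 1⟩
      mul_mem' := by
        rintro a b ⟨ha, ha'⟩ ⟨hb, hb'⟩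
        refine ⟨mul_mem ha hb, ?_⟩
        obtain ⟨a, hh, rfl⟩ := ha
        obtain ⟨b, hk, rfl⟩ := hb
        rw [(hsq _ hrow b a hk.1 hh.1).mul_mul_mul_comm, ha', hb', one_mul]
      inv_mem' := by
        rintro a ⟨ha, ha'⟩
        exact ⟨inv_mem ha, by rw [← _root_.mul_inv_rev, ha', inv_one]⟩ }
  have hhk : ∀ h k : Γ, h ∈ H → k ∈ K → q ⁅h, k⁆ ∈ C := by
    intro h k hh hk
    have hR : ⁅h, k⁆ ∈ H ⊓ K := by
      obtain ⟨a, c, ea⟩ := mem_rowG.1 hh
      obtain ⟨b, c', eb⟩ := mem_colG.1 hk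
      have e : σ ⁅h, k⁆ = QuotientGroup.mk (rowE 0 (a * b)) := by
        rw [map_commutatorElement, ea, eb, commutatorElement_def, mul_assoc _ _ (QuotientGroup.mk _)⁻¹,
          ← _root_.mul_inv_rev, mul_inv_eq_iff_eq_mul, ← QuotientGroup.mk_mul, row_col_swap,
          QuotientGroup.mk_mul, QuotientGroup.mk_mul]
      exact Subgroup.mem_inf.2 ⟨mem_rowG.2 ⟨_, _, e⟩,
        mem_colG.2 ⟨0, a * b, e.trans (by rw [rowE_zero_eq_colE])⟩⟩
    refine ⟨⟨_, hR, rfl⟩, ?_⟩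
    have h1 : ⁅h * h, k⁆ = 1 := commutatorElement_eq_one_iff_commute.2
      (Subgroup.mem_center_iff.1 (hc (by rw [MonoidHom.mem_ker, map_mul]; exact hrow _ hh)) k).symm
    have h2 : ⁅h * h, k⁆ = h * ⁅h, k⁆ * h⁻¹ * ⁅h, k⁆ := by
      simp only [commutatorElement_def]; group
    rw [h1] at h2
    have h3 := congrArg q h2
    rw [map_one, map_mul, map_mul, map_mul, map_inv, (hsq _ hrow h _ hh hR.1).eq,
      mul_inv_cancel_right] at h3
    exact h3.symm
  have hTC : ⁅T, T⁆ ≤ C.comap q := by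
    rw [Subgroup.commutator_le]
    have hdec : ∀ x ∈ T, ∃ k ∈ K, ∃ h ∈ H, x = k * h := by
      intro x hx
      obtain ⟨s, hs, e⟩ := hx
      obtain ⟨k, hk⟩ := hsur (QuotientGroup.mk (colE (s.1 1 2) 0))
      refine ⟨k, mem_colG.2 ⟨_, _, hk⟩, k⁻¹ * x, mem_rowG.2 ⟨s.1 0 1, s.1 0 2, ?_⟩,
        (mul_inv_cancel_left k x).symm⟩
      rw [map_mul, map_inv, ← e, hk, inv_mul_eq_iff_eq_mul, ← QuotientGroup.mk_mul,
        ← unitri_decomp hs]
      rfl
    intro x hx y hy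
    obtain ⟨k₁, hk₁, h₁, hh₁, rfl⟩ := hdec x hx
    obtain ⟨k₂, hk₂, h₂, hh₂, rfl⟩ := hdec y hy
    rw [Subgroup.mem_comap, map_commutatorElement, map_mul, map_mul]
    have c1 := hsq _ hcol k₁ k₂ hk₁ hk₂
    have c2 := hsq _ hrow h₁ h₂ hh₁ hh₂
    have p := hhk h₁ k₂ hh₁ hk₂
    have r := hhk h₂ k₁ hh₂ hk₁
    obtain ⟨⟨p', hp', ep⟩, -⟩ := p
    obtain ⟨⟨r', hr', er⟩, -⟩ := r
    have cp : Commute (q k₁) (q ⁅h₁, k₂⁆) := ep ▸ hsq _ hcol k₁ p' hk₁ hp'.2
    have cr : Commute (q k₂) (q ⁅h₂, k₁⁆) := er ▸ hsq _ hcol k₂ r' hk₂ hr'.2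
    rw [map_commutatorElement] at cp cr
    have e1 : q k₁ * q h₁ * (q k₂ * q h₂) = ⁅q h₁, q k₂⁆ * (q k₁ * q k₂ * (q h₁ * q h₂)) := by
      calc _ = q k₁ * ⁅q h₁, q k₂⁆ * (q k₂ * (q h₁ * q h₂)) := by
            simp only [commutatorElement_def]; group
        _ = ⁅q h₁, q k₂⁆ * q k₁ * (q k₂ * (q h₁ * q h₂)) := by rw [cp.eq]
        _ = _ := by simp only [mul_assoc]
    have e2 : q k₂ * q h₂ * (q k₁ * q h₁) = ⁅q h₂, q k₁⁆ * (q k₁ * q k₂ * (q h₁ * q h₂)) := by
      calc _ = q k₂ * ⁅q h₂, q k₁⁆ * (q k₁ * (q h₂ * q h₁)) := by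
            simp only [commutatorElement_def]; group
        _ = ⁅q h₂, q k₁⁆ * q k₂ * (q k₁ * (q h₂ * q h₁)) := by rw [cr.eq]
        _ = ⁅q h₂, q k₁⁆ * (q k₂ * q k₁ * (q h₂ * q h₁)) := by simp only [mul_assoc]
        _ = _ := by rw [c1.eq, c2.eq]
    rw [show ⁅q k₁ * q h₁, q k₂ * q h₂⁆ =
        q k₁ * q h₁ * (q k₂ * q h₂) * (q k₂ * q h₂ * (q k₁ * q h₁))⁻¹ by
      simp only [commutatorElement_def]; group, e1, e2, _root_.mul_inv_rev, ← mul_assoc,
      mul_inv_cancel_right, ← map_commutatorElement, ← map_commutatorElement]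
    exact mul_mem (hhk h₁ k₂ hh₁ hk₂) (inv_mem (hhk h₂ k₁ hh₂ hk₁))
  have hm := hTC (pow_index_mem_derived T (hc hz) (hd hz))
  rw [Subgroup.mem_comap, Subgroup.index_comap_of_surjective _ hsur] at hm
  have h2 := hm.2
  rw [← map_mul] at h2
  have h3 := ((QuotientGroup.eq_one_iff _).1 h2).2
  rw [show (U3).index * 4 = ((U3).index + (U3).index) + ((U3).index + (U3).index) by ring,
    pow_add, pow_add]
  exact h3

theorem odd_index : Odd (U3).index := by
  haveI : Fact (Nat.Prime 2) := ⟨Nat.prime_two⟩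
  obtain ⟨P, hP⟩ := exists_sylow_eq (n := 3) (F := F) 2 (by norm_num)
  rw [← hP]
  exact Nat.not_even_iff_odd.1 fun h => P.not_dvd_index (even_iff_two_dvd.1 h)

theorem exists_pair {X : Type*} [Group X] [Finite X] (hsq : ∀ x : X, x * x = 1)
    (hcard : Nat.card X ≤ 4) : ∃ a b : X, ∀ x, x = 1 ∨ x = a ∨ x = b ∨ x = a * b := by
  classical
  haveI := Fintype.ofFinite X
  by_cases h1 : ∀ x : X, x = 1
  · exact ⟨1, 1, fun x => Or.inl (h1 x)⟩
  push Not at h1
  obtain ⟨a, ha⟩ := h1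
  by_cases h2 : ∀ x : X, x = 1 ∨ x = a
  · exact ⟨a, 1, fun x => (h2 x).elim Or.inl (fun h => Or.inr (Or.inl h))⟩
  push Not at h2
  obtain ⟨b, hb1, hb2⟩ := h2
  have hab1 : a * b ≠ 1 := fun h =>
    hb2 ((eq_inv_of_mul_eq_one_right h).trans (inv_eq_of_mul_eq_one_right (hsq a)))
  have hall : ({1, a, b, a * b} : Finset X) = Finset.univ := by
    refine Finset.eq_univ_of_card _ (le_antisymm (Finset.card_le_univ _) ?_)
    rw [Nat.card_eq_fintype_card] at hcard
    rw [Finset.card_insert_of_notMem, Finset.card_insert_of_notMem,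
      Finset.card_insert_of_notMem, Finset.card_singleton]
    · exact hcard
    · simpa using fun h : b = a * b => ha (right_eq_mul.1 h)
    · simp only [Finset.mem_insert, Finset.mem_singleton, not_or]
      exact ⟨Ne.symm hb2, fun h => hb1 (left_eq_mul.1 h)⟩
    · simp [Ne.symm ha, Ne.symm hb1, Ne.symm hab1]
  refine ⟨a, b, fun x => ?_⟩
  have hx := Finset.mem_univ x
  rw [← hall] at hx
  simpa using hx

/-- Two elements generate the elements of the kernel of order dividing four. -/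
theorem exists_two_gen (hF : Fintype.card F = 4) (hs : Cfsg.IsStemExtension σ) :
    ∃ y₁ ∈ σ.ker, ∃ y₂ ∈ σ.ker, y₁ ^ 4 = 1 ∧ y₂ ^ 4 = 1 ∧
      ∀ S : Subgroup Γ, y₁ ∈ S → y₂ ∈ S → ∀ z ∈ σ.ker, z ^ 4 = 1 → z ∈ S := by
  have hperf := stem_perfect hs
  have hexp := fun z (hz : z ∈ σ.ker) => pow_four_index hs hz
  obtain ⟨hsur, hc, -⟩ := hs
  set n := (U3).index with hn
  obtain ⟨m, hm⟩ := odd_index (F := F)
  rw [← hn] at hm
  -- squares and elements of odd order
  let N : Subgroup Γ :=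
    { carrier := {x | ∃ k ∈ σ.ker, ∃ r ∈ σ.ker, r ^ n = 1 ∧ k * k * r = x}
      one_mem' := ⟨1, one_mem _, 1, one_mem _, one_pow n, by simp⟩
      mul_mem' := by
        rintro _ _ ⟨k, hk, r, hr, hrn, rfl⟩ ⟨k', hk', r', hr', hrn', rfl⟩
        have ck : ∀ g, Commute g k := Subgroup.mem_center_iff.1 (hc hk)
        have cr : ∀ g, Commute g r := Subgroup.mem_center_iff.1 (hc hr)
        refine ⟨k * k', mul_mem hk hk', r * r', mul_mem hr hr', ?_, ?_⟩
        · rw [(cr r').symm.mul_pow, hrn, hrn', one_mul]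
        · rw [(ck k').mul_mul_mul_comm, (cr (k' * k')).mul_mul_mul_comm]
      inv_mem' := by
        rintro _ ⟨k, hk, r, hr, hrn, rfl⟩
        refine ⟨k⁻¹, inv_mem hk, r⁻¹, inv_mem hr, by rw [inv_pow, hrn, inv_one], ?_⟩
        rw [_root_.mul_inv_rev (k * k) r, _root_.mul_inv_rev k k]
        exact (show Commute (k⁻¹ * k⁻¹) r⁻¹ from Subgroup.mem_center_iff.1 (hc (inv_mem hr)) _).eq }
  have hNk : N ≤ σ.ker := by
    rintro _ ⟨k, hk, r, hr, -, rfl⟩
    exact mul_mem (mul_mem hk hk) hr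
  haveI : N.Normal := ⟨fun n hn g => by
    rw [Subgroup.mem_center_iff.1 (hc (hNk hn)) g, mul_inv_cancel_right]; exact hn⟩
  let φ : Γ ⧸ N →* PSL3 := QuotientGroup.lift N σ hNk
  have hφs : Function.Surjective φ := fun y => by
    obtain ⟨x, rfl⟩ := hsur y
    exact ⟨QuotientGroup.mk x, rfl⟩
  have hφc : φ.ker ≤ Subgroup.center (Γ ⧸ N) := by
    intro x hx
    obtain ⟨x, rfl⟩ := QuotientGroup.mk_surjective x
    refine Subgroup.mem_center_iff.2 fun y => ?_
    obtain ⟨y, rfl⟩ := QuotientGroup.mk_surjective y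
    rw [← QuotientGroup.mk_mul, ← QuotientGroup.mk_mul, Subgroup.mem_center_iff.1 (hc hx) y]
  have hker := ker_eq_center hφs hφc
  have hZ : ∀ z ∈ Subgroup.center (Γ ⧸ N), z * z = 1 := by
    intro z hz
    obtain ⟨x, rfl⟩ := QuotientGroup.mk_surjective z
    rw [← QuotientGroup.mk_mul, QuotientGroup.eq_one_iff]
    exact ⟨x, (hker _).2 hz, 1, one_mem _, one_pow n, mul_one _⟩
  have hperf' : commutator (Γ ⧸ N) = ⊤ := by
    rw [commutator_def, ← Subgroup.map_top_of_surjective (QuotientGroup.mk' N)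
      (QuotientGroup.mk'_surjective N), ← Subgroup.map_commutator, ← commutator_def, hperf]
  obtain ⟨a, b, hab⟩ := exists_pair (X := Subgroup.center (Γ ⧸ N))
    (fun x => Subtype.ext (hZ _ x.2)) (card_center_le hF hφs hker hZ hperf')
  obtain ⟨a', ha'⟩ := QuotientGroup.mk_surjective a.1
  obtain ⟨b', hb'⟩ := QuotientGroup.mk_surjective b.1
  have hak : a' ∈ σ.ker := (hker (QuotientGroup.mk a')).2 (ha'.symm ▸ a.2)
  have hbk : b' ∈ σ.ker := (hker (QuotientGroup.mk b')).2 (hb'.symm ▸ b.2)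
  refine ⟨a' ^ n, pow_mem hak n, b' ^ n, pow_mem hbk n, by rw [← pow_mul]; exact hexp _ hak,
    by rw [← pow_mul]; exact hexp _ hbk, fun S hyA hyB => ?_⟩
  have hstep : ∀ z ∈ σ.ker, ∃ s ∈ S, ∃ k ∈ σ.ker, z ^ n = s * (k * k) := by
    intro z hz
    have hzc : (QuotientGroup.mk z : Γ ⧸ N) ∈ Subgroup.center (Γ ⧸ N) := (hker _).1 hz
    obtain ⟨t, ht, hts, htk⟩ : ∃ t, (QuotientGroup.mk t : Γ ⧸ N) = QuotientGroup.mk z ∧
        t ^ n ∈ S ∧ t ∈ σ.ker := by
      rcases hab ⟨_, hzc⟩ with h | h | h | h <;> have e := congrArg Subtype.val h <;>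
        simp only [Subgroup.coe_one, Subgroup.coe_mul, ← ha', ← hb', ← QuotientGroup.mk_mul] at e
      · exact ⟨1, by rw [e]; rfl, by rw [one_pow]; exact one_mem S, one_mem _⟩
      · exact ⟨a', e.symm, hyA, hak⟩
      · exact ⟨b', e.symm, hyB, hbk⟩
      · exact ⟨a' * b', e.symm, by
          rw [(show Commute a' b' from Subgroup.mem_center_iff.1 (hc hbk) a').mul_pow]
          exact mul_mem hyA hyB, mul_mem hak hbk⟩
    obtain ⟨k, hk, r, hr, hrn, e⟩ := QuotientGroup.eq.1 ht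
    refine ⟨_, hts, k ^ n, pow_mem hk n, ?_⟩
    have e' : z = t * (k * k * r) := by rw [e, mul_inv_cancel_left]
    rw [e', (show Commute t (k * k * r) from
        Subgroup.mem_center_iff.1 (hc (mul_mem (mul_mem hk hk) hr)) t).mul_pow,
      (show Commute (k * k) r from Subgroup.mem_center_iff.1 (hc hr) (k * k)).mul_pow, hrn, mul_one,
      (Commute.refl k).mul_pow]
  have hnn : ∀ z : Γ, z ^ 4 = 1 → (z ^ n) ^ n = z := by
    intro z hz
    rw [← pow_mul, hm, show (2 * m + 1) * (2 * m + 1) = 4 * (m * m + m) + 1 by ring, pow_succ,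
      pow_mul, hz, one_pow, one_mul]
  have hone : ∀ z ∈ σ.ker, z ^ 4 = 1 → ∃ s ∈ S, ∃ k ∈ σ.ker, k ^ 4 = 1 ∧ z = s * (k * k) := by
    intro z hz hz4
    obtain ⟨s, hs, k, hk, e⟩ := hstep (z ^ n) (pow_mem hz n)
    rw [hnn z hz4] at e
    obtain ⟨s', hs', k', hk', e'⟩ : ∃ s' ∈ S, ∃ k' ∈ σ.ker, k ^ n = s' * (k' * k') :=
      hstep k hk
    refine ⟨s ^ (n * n), pow_mem hs _, k ^ (n * n), pow_mem hk _, ?_, ?_⟩
    · rw [← pow_mul, show n * n * 4 = n * 4 * n by ring, pow_mul, hexp _ hk, one_pow]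
    · calc z = (z ^ n) ^ n := (hnn z hz4).symm
        _ = _ := by
          rw [← pow_mul, e, (show Commute s (k * k) from
            Subgroup.mem_center_iff.1 (hc (mul_mem hk hk)) s).mul_pow, (Commute.refl k).mul_pow]
  intro z hz hz4
  obtain ⟨s, hs, k, hk, hk4, e⟩ := hone z hz hz4
  obtain ⟨s', hs', k', hk', hk4', e'⟩ := hone k hk hk4
  have hkk : k * k = s' * s' := by
    have hc' := Subgroup.mem_center_iff.1 (hc (mul_mem hk' hk'))
    rw [e', (show Commute (k' * k') s' from (hc' s').symm).mul_mul_mul_comm,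
      show k' * k' * (k' * k') = k' ^ 4 by simp only [pow_succ, pow_zero, one_mul, mul_assoc], hk4',
      mul_one]
  rw [e, hkk]
  exact mul_mem hs (mul_mem hs' hs')

end Cfsg.Agent.L34Mult
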