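import Cfsg.Agent.Lib.Suzuki.Eight.Corestriction

/-!
# The commutator pairing of a corestricted cocycle

For two commuting elements of order dividing two, only the cosets fixed by both contribute to the
commutator of their lifts in the extension given by a corestricted cocycle.
-/

set_option autoImplicit false
set_option linter.unusedSectionVars false

namespace Cfsg.Agent.L34Mult

open Cfsg.Agent.Suzuki.Eight MulAction

universe u v

variable {G : Type u} [Group G] {A : Type v} [AddCommGroup A]
variable (U : Subgroup G) (f : Cocycle U A) (r : G ⧸ U → G) (hr : ∀ x, (r x : G ⧸ U) = x)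

/-- The defect of commutativity at one coset. -/
def defect (g h : G) (x : G ⧸ U) : A :=
  f.toFun (comp U r hr g (h • x)) (comp U r hr h x) -
    f.toFun (comp U r hr h (g • x)) (comp U r hr g x)

/-- The cocycle value of the lift of `g` followed by itself. -/
def loopVal (g : G) (x : G ⧸ U) : A :=
  f.toFun (comp U r hr g (g • x)) (comp U r hr g x)

variable {g h : G}

theorem comp_sq (hg : g * g = 1) (x : G ⧸ U) :
    comp U r hr g (g • x) * comp U r hr g x = 1 := by
  rw [← comp_mul, hg, comp_one]

theorem comp_swap (hgh : g * h = h * g) (x : G ⧸ U) :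
    comp U r hr g (h • x) * comp U r hr h x = comp U r hr h (g • x) * comp U r hr g x := by
  rw [← comp_mul, ← comp_mul, hgh]

theorem smul_swap (hgh : g * h = h * g) (x : G ⧸ U) : g • h • x = h • g • x := by
  rw [← mul_smul, ← mul_smul, hgh]

theorem smul_self_inv (hg : g * g = 1) (x : G ⧸ U) : g • g • x = x := by
  rw [← mul_smul, hg, one_smul]

theorem loopVal_smul (hg : g * g = 1) (x : G ⧸ U) :
    loopVal U f r hr g (g • x) = loopVal U f r hr g x := by
  have hpq : comp U r hr g (g • x) * comp U r hr g x = 1 := comp_sq U r hr hg x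
  simp only [loopVal]
  rw [smul_self_inv U hg]
  set p := comp U r hr g x
  set q := comp U r hr g (g • x)
  have hqp : p * q = 1 := by
    rw [eq_inv_of_mul_eq_one_left hpq, mul_inv_cancel]
  have e := f.assoc p q p
  rw [hpq, hqp, f.one_left, f.one_right, add_zero, add_zero] at e
  exact e

/-- Two cosets exchanged by `g` contribute the difference of two loops. -/
theorem defect_add_smul (hg : g * g = 1) (hgh : g * h = h * g) (x : G ⧸ U) :
    defect U f r hr g h x + defect U f r hr g h (g • x) =
      loopVal U f r hr g (h • x) - loopVal U f r hr g x := by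
  have w1 := comp_swap U r hr hgh x
  have w2 := comp_swap U r hr hgh (g • x)
  have w3 := comp_sq U r hr hg (h • x)
  have w4 := comp_sq U r hr hg x
  simp only [defect, loopVal]
  rw [smul_self_inv U hg] at w2 ⊢
  rw [← smul_swap U hgh x] at w2 ⊢
  set p := comp U r hr g (h • x)
  set q := comp U r hr g (g • h • x)
  set b₁ := comp U r hr h x
  set b₂ := comp U r hr h (g • x)
  set s := comp U r hr g x
  set s' := comp U r hr g (g • x)
  have a1 := f.assoc q p b₁
  rw [w3, f.one_left, add_zero, w1] at a1
  have a2 := f.assoc q b₂ s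
  rw [w2] at a2
  have a3 := f.assoc b₁ s' s
  rw [w4, f.one_right, add_zero] at a3
  have e1 : f.toFun p b₁ = f.toFun q p - f.toFun q (b₂ * s) := by rw [a1]; abel
  have e2 : f.toFun q (b₂ * s) =
      f.toFun q b₂ + f.toFun (b₁ * s') s - f.toFun b₂ s := by rw [a2]; abel
  have e3 : f.toFun (b₁ * s') s = f.toFun s' s - f.toFun b₁ s' := by rw [← a3]; abel
  rw [e1, e2, e3]
  abel

/-- Two cosets fixed by `g` and exchanged by `h` contribute nothing. -/
theorem defect_add_of_fixed (hh : h * h = 1) (hgh : g * h = h * g) (x : G ⧸ U) (hx : g • x = x) :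
    defect U f r hr g h x + defect U f r hr g h (h • x) = 0 := by
  have hy : g • h • x = h • x := by rw [smul_swap U hgh, hx]
  have w1 := comp_swap U r hr hgh x
  have w2 := comp_swap U r hr hgh (h • x)
  have w3 := comp_sq U r hr hh x
  simp only [defect]
  rw [hx] at w1 ⊢
  rw [hy, smul_self_inv U hh] at w2
  rw [hy, smul_self_inv U hh]
  set a := comp U r hr g x
  set a' := comp U r hr g (h • x)
  set b := comp U r hr h x
  set b₂ := comp U r hr h (h • x)
  have w4 : b * b₂ = 1 := by rw [eq_inv_of_mul_eq_one_left w3, mul_inv_cancel]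
  have a1 := f.assoc b₂ a' b
  have a2 := f.assoc a b₂ b
  have a3 := f.assoc b₂ b a
  rw [w1] at a1
  rw [w3, f.one_right, add_zero, w2] at a2
  rw [w3, f.one_left, add_zero] at a3
  have e1 : f.toFun a' b = f.toFun b₂ a' + f.toFun (b₂ * a') b - f.toFun b₂ (b * a) := by
    rw [a1]; abel
  have e2 : f.toFun a b₂ = f.toFun b₂ b - f.toFun (b₂ * a') b := by rw [← a2]; abel
  have e3 : f.toFun b a = f.toFun b₂ b - f.toFun b₂ (b * a) := by rw [a3]; abel
  rw [e1, e2, e3]
  abel

open scoped Classical in
/-- Only the cosets fixed by both elements contribute. -/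
theorem cores_sub_swap [Fintype (G ⧸ U)] (hg : g * g = 1) (hh : h * h = 1) (hgh : g * h = h * g) :
    (cores U f r hr).toFun g h - (cores U f r hr).toFun h g =
      ∑ x ∈ Finset.univ.filter (fun x : G ⧸ U => g • x = x ∧ h • x = x),
        defect U f r hr g h x := by
  change ∑ x, _ - ∑ x, _ = _
  rw [← Finset.sum_sub_distrib]
  change ∑ x, defect U f r hr g h x = _
  rw [← Finset.sum_filter_add_sum_filter_not Finset.univ
    (fun x : G ⧸ U => g • x = x) (defect U f r hr g h)]
  have hmoved : ∑ x ∈ Finset.univ.filter (fun x : G ⧸ U => ¬ g • x = x),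
      defect U f r hr g h x = 0 := by
    set e := Fintype.equivFin (G ⧸ U)
    set S := Finset.univ.filter (fun x : G ⧸ U => e x < e (g • x)) with hS
    set T := Finset.univ.filter (fun x : G ⧸ U => e (g • x) < e x) with hT
    have hsplit : Finset.univ.filter (fun x : G ⧸ U => ¬ g • x = x) = S ∪ T := by
      ext x
      simp only [hS, hT, Finset.mem_filter, Finset.mem_univ, true_and, Finset.mem_union]
      refine ⟨fun hne => lt_or_gt_of_ne fun he => hne (e.injective he).symm, ?_⟩
      rintro (h1 | h1) h2 <;> rw [h2] at h1 <;> exact lt_irrefl _ h1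
    have hdisj : Disjoint S T := Finset.disjoint_filter.2 fun x _ h1 h2 => lt_asymm h1 h2
    have hTS : ∑ x ∈ T, defect U f r hr g h x = ∑ x ∈ S, defect U f r hr g h (g • x) := by
      refine Finset.sum_nbij' (fun x => g • x) (fun x => g • x) ?_ ?_ ?_ ?_ ?_ <;>
        simp [hS, hT, smul_self_inv U hg]
    rw [hsplit, Finset.sum_union hdisj, hTS, ← Finset.sum_add_distrib,
      Finset.sum_congr rfl fun x _ => defect_add_smul U f r hr hg hgh x, Finset.sum_sub_distrib,
      sub_eq_zero]
    let φ : G ⧸ U → G ⧸ U := fun x => if e (h • x) < e (g • h • x) then h • x else g • h • x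
    have hmem : ∀ x ∈ S, φ x ∈ S := by
      intro x hx
      simp only [hS, Finset.mem_filter, Finset.mem_univ, true_and] at hx ⊢
      by_cases hc : e (h • x) < e (g • h • x)
      · simp only [φ, if_pos hc]
        exact hc
      · simp only [φ, if_neg hc, smul_self_inv U hg]
        refine lt_of_le_of_ne (not_lt.1 hc) fun he => ?_
        rw [smul_swap U hgh] at he
        have h1 := congrArg (h • ·) (e.injective he)
        simp only [smul_self_inv U hh] at h1
        rw [h1] at hx
        exact lt_irrefl _ hx
    have hinv : ∀ x ∈ S, φ (φ x) = x := by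
      intro x hx
      simp only [hS, Finset.mem_filter, Finset.mem_univ, true_and] at hx
      by_cases hc : e (h • x) < e (g • h • x)
      · simp only [φ, if_pos hc, smul_self_inv U hh, if_pos hx]
      · simp only [φ, if_neg hc]
        rw [← smul_swap U hgh (h • x), smul_self_inv U hh, smul_self_inv U hg, if_neg (lt_asymm hx)]
    refine Finset.sum_nbij' φ φ hmem hmem hinv hinv fun x _ => ?_
    by_cases hc : e (h • x) < e (g • h • x)
    · simp only [φ, if_pos hc]
    · simp only [φ, if_neg hc]
      exact (loopVal_smul U f r hr hg _).symm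
  rw [hmoved, add_zero, ← Finset.sum_filter_add_sum_filter_not
    (Finset.univ.filter fun x : G ⧸ U => g • x = x) (fun x => h • x = x)]
  rw [Finset.filter_filter, Finset.filter_filter]
  refine add_eq_left.2 ?_
  refine Finset.sum_involution (fun x _ => h • x) ?_ ?_ ?_ ?_
  · intro x hx
    simp only [Finset.mem_filter] at hx
    exact defect_add_of_fixed U f r hr hh hgh x hx.2.1
  · intro x hx _
    simp only [Finset.mem_filter] at hx
    exact hx.2.2
  · intro x hx
    simp only [Finset.mem_filter, Finset.mem_univ, true_and] at hx ⊢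
    refine ⟨by rw [smul_swap U hgh, hx.1], fun e' => hx.2 ?_⟩
    rw [smul_self_inv U hh] at e'
    exact e'.symm
  · intro x _
    exact smul_self_inv U hh x

end Cfsg.Agent.L34Mult
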