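import Cfsg.Agent.Lib.L34Mult.Fixed
import Cfsg.Agent.Lib.Perm.L34Cover.Cover
import Cfsg.Agent.Lib.Transfer.SplitLifts
import Cfsg.Prelude.Def_KGroupFacts

/-!
# A stem extension of `L₃(4)` with kernel of type 3 × 4 × 4
-/

set_option autoImplicit false
set_option linter.unusedSectionVars false

namespace Cfsg.Agent.L34Mult

open Matrix Cfsg.Agent.AutPSL.Roots Cfsg.Agent.AutPSL.Basic Cfsg.Agent.Suzuki.Eight
open Cfsg.Agent.Perm.L34Cover
open scoped commutatorElement

universe u

variable {F : Type u} [Field F] [Fintype F]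

local notation "SL3" => Matrix.SpecialLinearGroup (Fin 3) F
local notation "PSL3" => Matrix.ProjectiveSpecialLinearGroup (Fin 3) F
local notation "U3" => (unitri (n := 3) (F := F))

theorem commutator_psl : commutator PSL3 = ⊤ := by
  rw [commutator_def, ← Subgroup.map_top_of_surjective (QuotientGroup.mk' (Subgroup.center SL3))
      (QuotientGroup.mk'_surjective _), ← Subgroup.map_commutator, ← commutator_def,
    Classical.Linear.commutator_SL_eq_top (by simp)]

theorem center_psl : Subgroup.center PSL3 = ⊥ := by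
  haveI : IsSimpleGroup PSL3 := Classical.Linear.isSimpleGroup_PSL_fin (by norm_num) (by norm_num)
  rcases IsSimpleGroup.eq_bot_or_eq_top_of_normal (Subgroup.center PSL3) inferInstance with h | h
  · exact h
  · exfalso
    have hb : commutator PSL3 = ⊥ := by
      rw [commutator_def, Subgroup.commutator_eq_bot_iff_le_centralizer]
      intro x _
      rw [Subgroup.mem_centralizer_iff]
      intro y _
      exact Subgroup.mem_center_iff.1 (h ▸ Subgroup.mem_top x) y
    exact bot_ne_top (hb.symm.trans commutator_psl)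

/-- The kernel of a surjection onto `L₃(4)` with central kernel is the centre. -/
theorem ker_eq_center {X : Type*} [Group X] {φ : X →* Matrix.ProjectiveSpecialLinearGroup (Fin 3) F}
    (hφ : Function.Surjective φ) (hc : φ.ker ≤ Subgroup.center X) (x : X) :
    φ x = 1 ↔ x ∈ Subgroup.center X := by
  refine ⟨fun h => hc h, fun hx => ?_⟩
  rw [← Subgroup.mem_bot, ← center_psl, Subgroup.mem_center_iff]
  intro y
  obtain ⟨g, rfl⟩ := hφ y
  rw [← map_mul, ← map_mul, Subgroup.mem_center_iff.1 hx g]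

/-- The derived group of a central extension of `L₃(4)`. -/
theorem perfect_derived {X : Type*} [Group X] {φ : X →* Matrix.ProjectiveSpecialLinearGroup (Fin 3) F}
    (hφ : Function.Surjective φ) (hc : φ.ker ≤ Subgroup.center X) :
    (commutator X).map φ = ⊤ ∧ commutator ↥(commutator X) = ⊤ := by
  have h1 : (commutator X).map φ = ⊤ := by
    rw [commutator_def, Subgroup.map_commutator, Subgroup.map_top_of_surjective φ hφ,
      ← commutator_def, commutator_psl]
  refine ⟨h1, Subgroup.map_injective (commutator X).subtype_injective ?_⟩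
  rw [Subgroup.map_subtype_commutator, ← MonoidHom.range_eq_map, Subgroup.range_subtype]
  refine le_antisymm (Subgroup.commutator_le_self _) ?_
  conv_lhs => rw [commutator_def]
  rw [Subgroup.commutator_le]
  intro a _ b _
  have hlift : ∀ y : X, ∃ y' ∈ commutator X, φ y' = φ y := fun y => by
    have hy := Subgroup.mem_top (φ y)
    rw [← h1] at hy
    exact hy
  obtain ⟨a', ha', ea⟩ := hlift a
  obtain ⟨b', hb', eb⟩ := hlift b
  rw [Cfsg.Agent.Transfer.SplitLifts.comm_congr hc ea.symm eb.symm]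
  exact Subgroup.commutator_mem_commutator ha' hb'

/-- A cover by the additive group of `GR(4,2)`. -/
theorem exists_two_cover (hF : Fintype.card F = 4) :
    ∃ (X : Type u) (_ : Group X) (_ : Finite X) (σ : X →* Matrix.ProjectiveSpecialLinearGroup (Fin 3) F),
      Function.Surjective σ ∧ σ.ker ≤ Subgroup.center X ∧ commutator X = ⊤ ∧
        Nonempty (σ.ker ≃* Multiplicative Coef) := by
  classical
  obtain ⟨W⟩ := exists_frame hF
  haveI : CharP F 2 := CharTwo.of_one_ne_zero_of_two_eq_zero one_ne_zero W.two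
  haveI : Fintype (PSL3 ⧸ U3) := Fintype.ofFinite _
  set c := globalCocycle W with hcdef
  have hc := ker_le_center c
  have hsur := proj_surjective c
  obtain ⟨hmap, hperf⟩ := perfect_derived hsur hc
  set D := commutator (Ext c) with hD
  set σ : D →* PSL3 := (proj c).comp D.subtype with hσ
  have hσs : Function.Surjective σ := fun y => by
    have hy := Subgroup.mem_top y
    rw [← hmap] at hy
    obtain ⟨x, hx, rfl⟩ := hy
    exact ⟨⟨x, hx⟩, rfl⟩
  have hσc : σ.ker ≤ Subgroup.center D := fun x hx => Subgroup.mem_center_iff.2 fun y =>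
    Subtype.ext (Subgroup.mem_center_iff.1 (hc (show x.1 ∈ (proj c).ker from hx)) y.1)
  -- squares of the kernel
  let N : Subgroup D :=
    { carrier := {n | ∃ z ∈ σ.ker, z * z = n}
      one_mem' := ⟨1, one_mem _, one_mul 1⟩
      mul_mem' := by
        rintro _ _ ⟨z, hz, rfl⟩ ⟨w, hw, rfl⟩
        refine ⟨z * w, mul_mem hz hw, ?_⟩
        exact (show Commute w z from (Subgroup.mem_center_iff.1 (hσc hw) z).symm).mul_mul_mul_comm z w
      inv_mem' := by
        rintro _ ⟨z, hz, rfl⟩
        exact ⟨z⁻¹, inv_mem hz, by rw [_root_.mul_inv_rev]⟩ }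
  have hNk : N ≤ σ.ker := by
    rintro _ ⟨z, hz, rfl⟩
    exact mul_mem hz hz
  haveI : N.Normal := ⟨fun n hn g => by
    rw [Subgroup.mem_center_iff.1 (hσc (hNk hn)) g, mul_inv_cancel_right]; exact hn⟩
  let φ : D ⧸ N →* PSL3 := QuotientGroup.lift N σ hNk
  have hφs : Function.Surjective φ := fun y => by
    obtain ⟨x, rfl⟩ := hσs y
    exact ⟨QuotientGroup.mk x, rfl⟩
  have hφc : φ.ker ≤ Subgroup.center (D ⧸ N) := by
    intro x hx
    obtain ⟨x, rfl⟩ := QuotientGroup.mk_surjective x
    refine Subgroup.mem_center_iff.2 fun y => ?_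
    obtain ⟨y, rfl⟩ := QuotientGroup.mk_surjective y
    rw [← QuotientGroup.mk_mul, ← QuotientGroup.mk_mul, Subgroup.mem_center_iff.1 (hσc hx) y]
  have hZ : ∀ z ∈ Subgroup.center (D ⧸ N), z * z = 1 := by
    intro z hz
    obtain ⟨x, rfl⟩ := QuotientGroup.mk_surjective z
    rw [← QuotientGroup.mk_mul, QuotientGroup.eq_one_iff]
    exact ⟨x, (ker_eq_center hφs hφc _).2 hz, rfl⟩
  have hsq : ∀ x : D, σ x ∈ rowG → (QuotientGroup.mk x : D ⧸ N) * QuotientGroup.mk x = 1 :=
    fun x hx => squares hφs (ker_eq_center hφs hφc) hZ (nice_row hF) hx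
  -- every value of the pairing is twice a kernel element of the derived group
  have htwice : ∀ s : F, ∃ a : Coef, (⟨a, 1⟩ : Ext c) ∈ D ∧ a + a = W.dbl s := by
    intro s
    obtain ⟨x, hx⟩ := hσs (QuotientGroup.mk (rowE 1 0))
    obtain ⟨y, hy⟩ := hσs (QuotientGroup.mk (rowE 0 s))
    have hxy : σ (x * y) ∈ rowG := by
      rw [map_mul, hx, hy, ← QuotientGroup.mk_mul, rowE_mul]
      exact mem_rowG.2 ⟨_, _, rfl⟩
    have s1 := hsq x (hx ▸ mem_rowG.2 ⟨_, _, rfl⟩)
    have s2 := hsq y (hy ▸ mem_rowG.2 ⟨_, _, rfl⟩)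
    have s3 := hsq _ hxy
    have hN : ⁅x, y⁆ ∈ N := by
      rw [← QuotientGroup.eq_one_iff, ← QuotientGroup.mk'_apply, map_commutatorElement,
        commutatorElement_eq_one_iff_commute]
      rw [QuotientGroup.mk_mul] at s3
      have e := inv_eq_of_mul_eq_one_right s3
      rw [_root_.mul_inv_rev, inv_eq_of_mul_eq_one_right s2, inv_eq_of_mul_eq_one_right s1] at e
      exact e.symm
    obtain ⟨z, hz, hzz⟩ := hN
    have hz1 : z.1.val = 1 := hz
    refine ⟨z.1.ker, ?_, ?_⟩
    · convert z.2 using 1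
      exact Ext.ext' c rfl hz1.symm
    · have h1 : (proj c) x.1 = QuotientGroup.mk (rowE 1 0) := hx
      have h2 : (proj c) y.1 = QuotientGroup.mk (rowE 0 s) := hy
      have e := congrArg (fun t : D => (t : Ext c)) hzz
      simp only [Subgroup.coe_mul] at e
      have e' : ((⁅x, y⁆ : D) : Ext c) =
          ⁅(⟨0, QuotientGroup.mk (rowE 1 0)⟩ : Ext c), ⟨0, QuotientGroup.mk (rowE 0 s)⟩⁆ := by
        change D.subtype ⁅x, y⁆ = _
        rw [map_commutatorElement]
        exact Cfsg.Agent.Transfer.SplitLifts.comm_congr hc h1 h2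
      rw [e', commutatorElement_def] at e
      have hcomm : (QuotientGroup.mk (rowE (1 : F) 0) : PSL3) * QuotientGroup.mk (rowE 0 s) =
          QuotientGroup.mk (rowE 0 s) * QuotientGroup.mk (rowE 1 0) := by
        rw [← QuotientGroup.mk_mul, ← QuotientGroup.mk_mul, rowE_mul, rowE_mul, add_comm 1,
          add_comm 0 s]
      rw [show ∀ a b : Ext c, a * b * a⁻¹ * b⁻¹ = a * b * (b * a)⁻¹ from fun a b => by group,
        commutator_lift c hcomm,
        show c.toFun _ _ - c.toFun _ _ = W.dbl s from pairing W s] at e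
      have e2 := congrArg Ext.ker e
      simp only [Ext.mul_def, hz1, c.one_left, add_zero] at e2
      exact e2
  have hmulker : ∀ a b : Coef, (⟨a, 1⟩ : Ext c) * ⟨b, 1⟩ = ⟨a + b, 1⟩ := fun a b =>
    Ext.ext' c (by simp only [Ext.mul_def, c.one_left, add_zero]) (one_mul 1)
  have hall : ∀ a : Coef, (⟨a, 1⟩ : Ext c) ∈ D := by
    intro a
    obtain ⟨s, hs⟩ := W.exists_dbl (Frame.four_nsmul W a)
    obtain ⟨k, hk, hkk⟩ := htwice s
    have h2 : (a - k) + (a - k) = 0 := by
      have := hkk.trans hs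
      calc (a - k) + (a - k) = (a + a) - (k + k) := by abel
        _ = 0 := by rw [this, sub_self]
    obtain ⟨t, ht⟩ := W.exists_dbl h2
    obtain ⟨k', hk', hkk'⟩ := htwice t
    have := mul_mem hk (mul_mem hk' hk')
    rwa [hmulker, hkk', ht, hmulker, add_sub_cancel] at this
  refine ⟨D, inferInstance, inferInstance, σ, hσs, hσc, hperf, ⟨MulEquiv.trans ?_ (kerEquiv c)⟩⟩
  exact
    { toFun := fun x => ⟨x.1.1, x.2⟩
      invFun := fun z => ⟨⟨z.1, by
        have := hall z.1.ker
        convert this using 1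
        exact Ext.ext' c rfl ((mem_ker_proj c).1 z.2)⟩, z.2⟩
      left_inv := fun _ => rfl
      right_inv := fun _ => rfl
      map_mul' := fun _ _ => rfl }

theorem exists_cover (hF : Fintype.card F = 4) :
    ∃ (X : Type u) (_ : Group X) (_ : Finite X) (σ : X →* Matrix.ProjectiveSpecialLinearGroup (Fin 3) F),
      Cfsg.IsStemExtension σ ∧ Nonempty (σ.ker ≃* Multiplicative (ZMod 3 × ZMod 4 × ZMod 4)) := by
  obtain ⟨X, gX, fX, σ, hσs, hσc, hperf, ⟨eK⟩⟩ := exists_two_cover hF
  let P : Subgroup (X × SL3) :=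
    { carrier := {p | σ p.1 = QuotientGroup.mk p.2}
      one_mem' := by simp
      mul_mem' := fun {a b} ha hb => by
        simp only [Set.mem_setOf_eq, Prod.fst_mul, Prod.snd_mul, map_mul, QuotientGroup.mk_mul] at *
        rw [ha, hb]
      inv_mem' := fun {a} ha => by
        simp only [Set.mem_setOf_eq, Prod.fst_inv, Prod.snd_inv, map_inv, QuotientGroup.mk_inv] at *
        rw [ha] }
  let π₁ : P →* X := (MonoidHom.fst X SL3).comp P.subtype
  let π₂ : P →* SL3 := (MonoidHom.snd X SL3).comp P.subtype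
  have hπ₁ : Function.Surjective π₁ := fun x => by
    obtain ⟨t, ht⟩ := QuotientGroup.mk_surjective (σ x)
    exact ⟨⟨(x, t), ht.symm⟩, rfl⟩
  have hπ₂ : Function.Surjective π₂ := fun t => by
    obtain ⟨x, hx⟩ := hσs (QuotientGroup.mk t)
    exact ⟨⟨(x, t), hx⟩, rfl⟩
  set τ : P →* PSL3 := σ.comp π₁ with hτ
  have hmem : ∀ p : P, p ∈ τ.ker ↔ π₁ p ∈ σ.ker ∧ π₂ p ∈ Subgroup.center SL3 := by
    intro p
    refine ⟨fun h => ⟨h, ?_⟩, fun h => h.1⟩
    rw [← QuotientGroup.eq_one_iff]
    exact p.2.symm.trans h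
  have hZ3 : Nat.card (Subgroup.center SL3) = 3 := by
    rw [Classical.Linear.natCard_center_SL, hF]; rfl
  have hK4 : ∀ x ∈ σ.ker, x ^ 4 = 1 := by
    intro x hx
    have h : ∀ a : Multiplicative Coef, a ^ 4 = 1 := by decide
    exact congrArg Subtype.val (show (⟨x, hx⟩ : σ.ker) ^ 4 = 1 from
      eK.injective (by rw [map_pow, map_one]; exact h _))
  have hC3 : ∀ t ∈ Subgroup.center SL3, t ^ 3 = 1 := fun t ht => by
    have := pow_card_eq_one' (G := Subgroup.center SL3) (x := ⟨t, ht⟩)
    rw [hZ3] at this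
    exact congrArg Subtype.val this
  have hlift₁ : ∀ x : X, ∃ q ∈ commutator P, π₁ q = x := fun x => by
    have hx := Subgroup.mem_top x
    rw [← hperf, commutator_def, ← Subgroup.map_top_of_surjective π₁ hπ₁, ← Subgroup.map_commutator,
      ← commutator_def] at hx
    exact hx
  have hlift₂ : ∀ t : SL3, ∃ q ∈ commutator P, π₂ q = t := fun t => by
    have ht := Subgroup.mem_top t
    rw [← Classical.Linear.commutator_SL_eq_top (F := F) (n := Fin 3) (by simp), commutator_def,
      ← Subgroup.map_top_of_surjective π₂ hπ₂, ← Subgroup.map_commutator, ← commutator_def] at ht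
    exact ht
  have hstem : τ.ker ≤ commutator P := by
    intro p hp
    obtain ⟨h1, h2⟩ := (hmem p).1 hp
    obtain ⟨q, hq, hq1⟩ := hlift₁ (π₁ p)
    obtain ⟨r, hr, hr2⟩ := hlift₂ (π₂ p)
    obtain ⟨-, q2⟩ := (hmem q).1 (show σ (π₁ q) = 1 by rw [hq1]; exact h1)
    obtain ⟨r1, -⟩ := (hmem r).1 (show σ (π₁ r) = 1 by
      rw [show σ (π₁ r) = QuotientGroup.mk (π₂ r) from r.2, hr2, QuotientGroup.eq_one_iff]
      exact h2)
    have e : p = q ^ 9 * r ^ 4 := by
      refine Subtype.ext (Prod.ext ?_ ?_)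
      · change π₁ p = π₁ (q ^ 9 * r ^ 4)
        rw [map_mul, map_pow, map_pow, hq1, hK4 _ r1, mul_one,
          show (9 : ℕ) = 4 * 2 + 1 from rfl, pow_succ, pow_mul, hK4 _ h1, one_pow, one_mul]
      · change π₂ p = π₂ (q ^ 9 * r ^ 4)
        rw [map_mul, map_pow, map_pow, hr2, show (9 : ℕ) = 3 * 3 from rfl, pow_mul, hC3 _ q2,
          one_pow, one_mul, show (4 : ℕ) = 3 + 1 from rfl, pow_succ, hC3 _ h2, one_mul]
    rw [e]
    exact mul_mem (pow_mem hq 9) (pow_mem hr 4)
  have hcen : τ.ker ≤ Subgroup.center P := by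
    intro p hp
    obtain ⟨h1, h2⟩ := (hmem p).1 hp
    exact Subgroup.mem_center_iff.2 fun g => Subtype.ext (Prod.ext
      (Subgroup.mem_center_iff.1 (hσc h1) (π₁ g)) (Subgroup.mem_center_iff.1 h2 (π₂ g)))
  let e : τ.ker ≃* Subgroup.center SL3 × σ.ker :=
    { toFun := fun p => (⟨π₂ p.1, ((hmem p.1).1 p.2).2⟩, ⟨π₁ p.1, ((hmem p.1).1 p.2).1⟩)
      invFun := fun q => ⟨⟨((q.2 : X), (q.1 : SL3)), by
        change σ (q.2 : X) = _
        rw [q.2.2, eq_comm, QuotientGroup.eq_one_iff]
        exact q.1.2⟩, q.2.2⟩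
      left_inv := fun _ => rfl
      right_inv := fun _ => rfl
      map_mul' := fun _ _ => rfl }
  haveI : Fact (Nat.Prime 3) := ⟨Nat.prime_three⟩
  haveI : IsCyclic (Subgroup.center SL3) := isCyclic_of_prime_card hZ3
  let e₃ : Subgroup.center SL3 ≃* Multiplicative (ZMod 3) :=
    mulEquivOfCyclicCardEq (by rw [hZ3]; simp)
  haveI : Finite P := inferInstance
  exact ⟨P, inferInstance, inferInstance, τ, ⟨hσs.comp hπ₁, hcen, hstem⟩,
    ⟨(e.trans (e₃.prodCongr eK)).trans (MulEquiv.prodMultiplicative (ZMod 3) Coef).symm⟩⟩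

end Cfsg.Agent.L34Mult
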