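import Cfsg.Agent.Lib.L34Mult.Cocycle
import Cfsg.Agent.Lib.Classical.Linear

/-!
# The pairing of the corestricted cocycle on the rows

Two independent row elements fix jointly exactly the cosets of the point stabiliser, an odd number,
and each contributes twice the Teichmüller lift of the determinant.
-/

set_option autoImplicit false
set_option linter.unusedSectionVars false

namespace Cfsg.Agent.L34Mult

open Matrix Cfsg.Agent.AutPSL.Roots Cfsg.Agent.AutPSL.Basic Cfsg.Agent.Suzuki.Eight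
open Cfsg.Agent.Perm.L34Cover MulAction

universe u

variable {F : Type u} [Field F] [Fintype F]

local notation "SL3" => Matrix.SpecialLinearGroup (Fin 3) F
local notation "PSL3" => Matrix.ProjectiveSpecialLinearGroup (Fin 3) F
local notation "U3" => (unitri (n := 3) (F := F))
local notation "US" => (unitriSL (n := 3) (F := F))

theorem conj_row (a c : F) (q : SL3) (i j : Fin 3) :
    (q⁻¹ * rowE a c * q).1 i j =
      (1 : Matrix (Fin 3) (Fin 3) F) i j + (q⁻¹).1 i 0 * (a * q.1 1 j + c * q.1 2 j) := by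
  have h : (q⁻¹).1 * q.1 = 1 := by
    rw [← Matrix.SpecialLinearGroup.coe_mul, inv_mul_cancel, Matrix.SpecialLinearGroup.coe_one]
  rw [← h]
  simp [rowE_coe, Matrix.SpecialLinearGroup.coe_mul, Matrix.mul_apply, Fin.sum_univ_three]
  ring

theorem mk_conj (q s : SL3) :
    (QuotientGroup.mk (q⁻¹ * s * q) : PSL3) =
      (QuotientGroup.mk q : PSL3)⁻¹ * (QuotientGroup.mk s * QuotientGroup.mk q) := by
  rw [mul_assoc, ← QuotientGroup.mk_inv, ← QuotientGroup.mk_mul, ← QuotientGroup.mk_mul]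

/-- A conjugate of a row element with unitriangular image is unitriangular. -/
theorem conj_row_mem (W : Frame F) {a c : F} {q : SL3}
    (h : (QuotientGroup.mk (q⁻¹ * rowE a c * q) : PSL3) ∈ U3) :
    q⁻¹ * rowE a c * q ∈ US := by
  obtain ⟨t, ht, ht'⟩ := h
  obtain ⟨k, hk⟩ := (mk_eq_mk_iff t (q⁻¹ * rowE a c * q)).1 ht'
  have h1 : Matrix.trace (q⁻¹ * rowE a c * q).1 = 3 := by
    rw [Matrix.SpecialLinearGroup.coe_mul, Matrix.trace_mul_comm, Matrix.SpecialLinearGroup.coe_mul,
      ← Matrix.mul_assoc, ← Matrix.SpecialLinearGroup.coe_mul q q⁻¹, mul_inv_cancel,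
      Matrix.SpecialLinearGroup.coe_one, Matrix.one_mul]
    simp [rowE_coe, Matrix.trace_fin_three]
    norm_num
  have h2 : Matrix.trace t.1 = 3 := by
    rw [Matrix.trace_fin_three, ht.2, ht.2, ht.2]
    norm_num
  have hk1 : k = 1 := by
    have := congrArg Matrix.trace hk
    rw [Matrix.trace_smul, h1, h2, smul_eq_mul] at this
    linear_combination -this + (1 - k) * W.two
  rw [hk1, one_smul] at hk
  rwa [Subtype.ext hk]

/-- The matrices fixing the first point. -/
def pointStab : Subgroup SL3 where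
  carrier := {p | p.1 1 0 = 0 ∧ p.1 2 0 = 0}
  one_mem' := by simp
  mul_mem' := by
    rintro p q ⟨h1, h2⟩ ⟨h3, h4⟩
    constructor <;>
      simp [Matrix.SpecialLinearGroup.coe_mul, Matrix.mul_apply, Fin.sum_univ_three, h1, h2, h3, h4]
  inv_mem' := by
    rintro p ⟨h1, h2⟩
    have h : (p⁻¹).1 * p.1 = 1 := by
      rw [← Matrix.SpecialLinearGroup.coe_mul, inv_mul_cancel, Matrix.SpecialLinearGroup.coe_one]
    have e : ∀ i, (p⁻¹).1 i 0 * p.1 0 0 = (1 : Matrix (Fin 3) (Fin 3) F) i 0 := fun i => by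
      rw [← h]; simp [Matrix.mul_apply, Fin.sum_univ_three, h1, h2]
    have h0 : p.1 0 0 ≠ 0 := right_ne_zero_of_mul_eq_one (by simpa using e 0)
    constructor
    · exact (mul_eq_zero.1 ((e 1).trans (by simp))).resolve_right h0
    · exact (mul_eq_zero.1 ((e 2).trans (by simp))).resolve_right h0

theorem mem_pointStab_of_conj {q : SL3} {s : F} (hs : s ≠ 0) (h1 : q⁻¹ * rowE 1 0 * q ∈ US)
    (h2 : q⁻¹ * rowE 0 s * q ∈ US) : q⁻¹ ∈ pointStab := by
  have a : ∀ i j : Fin 3, j ≤ i → (q⁻¹).1 i 0 * q.1 1 j = 0 := by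
    intro i j hji
    have e := conj_row 1 0 q i j
    rcases hji.eq_or_lt with rfl | hlt
    · rw [h1.2, Matrix.one_apply_eq] at e
      linear_combination -e
    · rw [h1.1 i j hlt, Matrix.one_apply_ne hlt.ne'] at e
      linear_combination -e
  have b : ∀ i j : Fin 3, j ≤ i → (q⁻¹).1 i 0 * q.1 2 j = 0 := by
    intro i j hji
    have e := conj_row 0 s q i j
    refine (mul_eq_zero.1 (show s * ((q⁻¹).1 i 0 * q.1 2 j) = 0 from ?_)).resolve_left hs
    rcases hji.eq_or_lt with rfl | hlt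
    · rw [h2.2, Matrix.one_apply_eq] at e
      linear_combination -e
    · rw [h2.1 i j hlt, Matrix.one_apply_ne hlt.ne'] at e
      linear_combination -e
  have hdet := q.2
  rw [Matrix.det_fin_three] at hdet
  constructor
  · by_contra hne
    have e1 := fun j hj => (mul_eq_zero.1 (a 1 j hj)).resolve_left hne
    have e2 := fun j hj => (mul_eq_zero.1 (b 1 j hj)).resolve_left hne
    rw [e1 0 (by decide), e1 1 (by decide), e2 0 (by decide), e2 1 (by decide)] at hdet
    simp at hdet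
  · by_contra hne
    have e1 := fun j hj => (mul_eq_zero.1 (a 2 j hj)).resolve_left hne
    rw [e1 0 (by decide), e1 1 (by decide), e1 2 (by decide)] at hdet
    simp at hdet

/-- Inside the point stabiliser row elements are conjugated to row elements. -/
theorem conj_row_eq {q : SL3} (hq : q⁻¹ ∈ pointStab) (a c : F) :
    q⁻¹ * rowE a c * q = rowE ((q⁻¹).1 0 0 * (a * q.1 1 1 + c * q.1 2 1))
      ((q⁻¹).1 0 0 * (a * q.1 1 2 + c * q.1 2 2)) := by
  have hq' : q ∈ pointStab := by simpa using inv_mem hq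
  refine Subtype.ext ?_
  ext i j
  rw [conj_row a c q i j, rowE_coe]
  fin_cases i <;> fin_cases j <;> simp [hq.1, hq.2, hq'.1, hq'.2]

theorem pointStab_det {q : SL3} (hq : q⁻¹ ∈ pointStab) :
    q.1 1 1 * q.1 2 2 - q.1 1 2 * q.1 2 1 = (q⁻¹).1 0 0 ∧ (q⁻¹).1 0 0 ≠ 0 := by
  have hq' : q ∈ pointStab := by simpa using inv_mem hq
  have h : (q⁻¹).1 * q.1 = 1 := by
    rw [← Matrix.SpecialLinearGroup.coe_mul, inv_mul_cancel, Matrix.SpecialLinearGroup.coe_one]
  have e : (q⁻¹).1 0 0 * q.1 0 0 = 1 := by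
    have := congrFun (congrFun h 0) 0
    simpa [Matrix.mul_apply, Fin.sum_univ_three, hq'.1, hq'.2] using this
  have hdet := q.2
  rw [Matrix.det_fin_three, hq'.1, hq'.2] at hdet
  refine ⟨?_, left_ne_zero_of_mul_eq_one e⟩
  linear_combination (q⁻¹).1 0 0 * hdet -
    (q.1 1 1 * q.1 2 2 - q.1 1 2 * q.1 2 1) * e

variable (W : Frame F)

/-- The global cocycle. -/
noncomputable def globalCocycle [Fintype (PSL3 ⧸ U3)] : Cocycle PSL3 Coef :=
  cores U3 W.cocycle Quotient.out fun x => QuotientGroup.out_eq' x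

theorem pairing [Fintype (PSL3 ⧸ U3)] (s : F) :
    (globalCocycle W).toFun (QuotientGroup.mk (rowE 1 0)) (QuotientGroup.mk (rowE 0 s)) -
      (globalCocycle W).toFun (QuotientGroup.mk (rowE 0 s)) (QuotientGroup.mk (rowE 1 0)) =
      W.dbl s := by
  classical
  rcases eq_or_ne s 0 with rfl | hs
  · rw [rowE_zero, QuotientGroup.mk_one, (globalCocycle W).one_left, (globalCocycle W).one_right,
      W.dbl_zero, sub_zero]
  set g : PSL3 := QuotientGroup.mk (rowE 1 0)
  set h : PSL3 := QuotientGroup.mk (rowE 0 s)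
  have hsq : ∀ a c : F, (QuotientGroup.mk (rowE a c) : PSL3) * QuotientGroup.mk (rowE a c) = 1 :=
    fun a c => by
      rw [← QuotientGroup.mk_mul, rowE_mul, W.add_self, W.add_self, rowE_zero, QuotientGroup.mk_one]
  have hcomm : g * h = h * g := by
    rw [← QuotientGroup.mk_mul, ← QuotientGroup.mk_mul, rowE_mul, rowE_mul, add_comm 1, add_comm 0 s]
  rw [globalCocycle, cores_sub_swap U3 W.cocycle _ _ (hsq 1 0) (hsq 0 s) hcomm]
  set S := Finset.univ.filter fun x : PSL3 ⧸ U3 => g • x = x ∧ h • x = x with hS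
  have hfix : ∀ x : PSL3 ⧸ U3, ∀ q : SL3, (QuotientGroup.mk q : PSL3) = x.out →
      ∀ a c : F, ((QuotientGroup.mk (rowE a c) : PSL3) • x = x ↔
        (QuotientGroup.mk (q⁻¹ * rowE a c * q) : PSL3) ∈ U3) := by
    intro x q hq a c
    rw [mk_conj, hq, ← QuotientGroup.eq, QuotientGroup.out_eq', ← smul_eq_mul,
      ← MulAction.Quotient.smul_coe, QuotientGroup.out_eq']
    exact eq_comm
  -- each jointly fixed coset contributes the determinant
  have hterm : ∀ x ∈ S, defect U3 W.cocycle Quotient.out (fun x => QuotientGroup.out_eq' x) g h x =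
      W.dbl s := by
    intro x hx
    rw [hS, Finset.mem_filter] at hx
    obtain ⟨q, hq⟩ := QuotientGroup.mk_surjective x.out
    have m1 := conj_row_mem W ((hfix x q hq 1 0).1 hx.2.1)
    have m2 := conj_row_mem W ((hfix x q hq 0 s).1 hx.2.2)
    have hP := mem_pointStab_of_conj hs m1 m2
    have hcomp : ∀ a c : F, (QuotientGroup.mk (rowE a c) : PSL3) • x = x →
        ((comp U3 Quotient.out (fun x => QuotientGroup.out_eq' x)
          (QuotientGroup.mk (rowE a c) : PSL3) x : U3) : PSL3) =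
        QuotientGroup.mk (q⁻¹ * rowE a c * q) := by
      intro a c hfx
      rw [mk_conj, hq]
      simp only [Cfsg.Agent.Suzuki.Eight.comp, hfx]
    rw [defect, hx.2.1, hx.2.2,
      W.cocycle_row _ _ ((hcomp 1 0 hx.2.1).trans (congrArg _ (conj_row_eq hP 1 0)))
        ((hcomp 0 s hx.2.2).trans (congrArg _ (conj_row_eq hP 0 s)))]
    refine congrArg W.dbl ?_
    obtain ⟨hd, hn⟩ := pointStab_det hP
    set n := (q⁻¹).1 0 0
    have h3 : n ^ 3 = 1 := mul_left_cancel₀ hn (by linear_combination W.pow_four n)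
    linear_combination n ^ 2 * s * hd + s * h3 + n ^ 2 * s * q.1 1 2 * q.1 2 1 * W.two
  rw [Finset.sum_congr rfl hterm, Finset.sum_const]
  -- these cosets are odd in number
  let P : Subgroup PSL3 := (pointStab (F := F)).map (QuotientGroup.mk' _)
  have hUP : U3 ≤ P := by
    rintro _ ⟨t, ht, rfl⟩
    exact ⟨t, ⟨ht.1 1 0 (by decide), ht.1 2 0 (by decide)⟩, rfl⟩
  have horb : MulAction.orbit P ((1 : PSL3) : PSL3 ⧸ U3) = (S : Set (PSL3 ⧸ U3)) := by
    ext x
    rw [Finset.mem_coe, hS, Finset.mem_filter, MulAction.mem_orbit_iff]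
    constructor
    · rintro ⟨⟨_, p, hp, rfl⟩, rfl⟩
      refine ⟨Finset.mem_univ _, ?_⟩
      have key : ∀ a c : F, (QuotientGroup.mk (rowE a c) : PSL3) •
          ((QuotientGroup.mk p : PSL3) • ((1 : PSL3) : PSL3 ⧸ U3)) =
            (QuotientGroup.mk p : PSL3) • ((1 : PSL3) : PSL3 ⧸ U3) := by
        intro a c
        simp only [MulAction.Quotient.smul_coe, smul_eq_mul, mul_one]
        refine (QuotientGroup.eq.2 ?_).symm
        rw [← mk_conj, conj_row_eq (inv_mem hp)]
        exact ⟨_, rowE_mem _ _, rfl⟩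
      exact ⟨key 1 0, key 0 s⟩
    · rintro ⟨-, hx1, hx2⟩
      obtain ⟨q, hq⟩ := QuotientGroup.mk_surjective x.out
      have hP := mem_pointStab_of_conj hs (conj_row_mem W ((hfix x q hq 1 0).1 hx1))
        (conj_row_mem W ((hfix x q hq 0 s).1 hx2))
      refine ⟨⟨_, q, by simpa using inv_mem hP, rfl⟩, ?_⟩
      change (QuotientGroup.mk q : PSL3) • ((1 : PSL3) : PSL3 ⧸ U3) = x
      rw [MulAction.Quotient.smul_coe, smul_eq_mul, mul_one, hq, QuotientGroup.out_eq']
  have hstab : MulAction.stabilizer P ((1 : PSL3) : PSL3 ⧸ U3) = (U3).subgroupOf P := by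
    ext p
    rw [MulAction.mem_stabilizer_iff, Subgroup.mem_subgroupOf]
    have hp : p • ((1 : PSL3) : PSL3 ⧸ U3) = (((p : PSL3) * 1 : PSL3) : PSL3 ⧸ U3) := rfl
    rw [hp, mul_one, QuotientGroup.eq, mul_one, inv_mem_iff]
  have hodd : Odd S.card := by
    haveI : Fact (Nat.Prime 2) := ⟨Nat.prime_two⟩
    haveI : CharP F 2 := CharTwo.of_one_ne_zero_of_two_eq_zero one_ne_zero W.two
    obtain ⟨Q, hQ⟩ := exists_sylow_eq (n := 3) (F := F) 2 (by norm_num)
    rw [← Set.ncard_coe_finset, ← horb, ← MulAction.index_stabilizer, hstab]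
    refine Nat.not_even_iff_odd.1 fun hev => Q.not_dvd_index ?_
    rw [hQ]
    exact (even_iff_two_dvd.1 hev).trans (Subgroup.relIndex_dvd_index_of_le hUP)
  obtain ⟨k, hk⟩ := hodd
  rw [hk, add_smul, mul_smul, one_smul, two_nsmul, ← smul_add, W.dbl_add_self, smul_zero, zero_add]

end Cfsg.Agent.L34Mult
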